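import Mathlib.Algebra.Group.Subgroup.Pointwise
import Mathlib.GroupTheory.PGroup
import Mathlib.GroupTheory.GroupAction.Defs
import Mathlib.Algebra.BigOperators.Group.Finset.Basic
import Mathlib.Data.ZMod.Basic
import Cfsg.Agent.Lib.PGroup.ElementaryAbelian
import Cfsg.Agent.Lib.Coprime.Basic

/-!
# Direct decompositions of a finite abelian group permuted by automorphisms

* `IsDec W D`: the finite set `D` of nontrivial subgroups is an independent family with join `W`.
* `IsDec.bind`, `exists_finest`: refinement, and an invariant decomposition with most members.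
* `fixSub H`: common fixed points; `isDec_fix_pair`, `isDec_elementary`: decompositions attached to
  a coprime elementary abelian group of automorphisms.
-/

set_option autoImplicit false
set_option linter.style.haveILetI false
set_option linter.unusedSectionVars false

open scoped Pointwise

namespace Cfsg.Agent.RegularOrbit

variable {V : Type*} [CommGroup V]

/-- The points fixed by every element of `H`. -/
def fixSub (H : Subgroup (MulAut V)) : Subgroup V where
  carrier := {v | ∀ h ∈ H, h v = v}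
  mul_mem' := fun {a b} ha hb h hh => by rw [map_mul, ha h hh, hb h hh]
  one_mem' := fun h _ => map_one h
  inv_mem' := fun {a} ha h hh => by rw [map_inv, ha h hh]

theorem mem_fixSub {H : Subgroup (MulAut V)} {v : V} : v ∈ fixSub H ↔ ∀ h ∈ H, h v = v := Iff.rfl

theorem fixSub_anti {H K : Subgroup (MulAut V)} (h : H ≤ K) : fixSub K ≤ fixSub H :=
  fun _ hv x hx => hv x (h hx)

theorem fixSub_bot : fixSub (⊥ : Subgroup (MulAut V)) = ⊤ :=
  eq_top_iff.2 fun v _ h hh => by rw [Subgroup.mem_bot.1 hh]; rfl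

theorem fixSub_sup (H K : Subgroup (MulAut V)) : fixSub (H ⊔ K) = fixSub H ⊓ fixSub K := by
  refine le_antisymm (le_inf (fixSub_anti le_sup_left) (fixSub_anti le_sup_right)) ?_
  rintro v ⟨hH, hK⟩ x hx
  have : H ⊔ K ≤ MulAction.stabilizer (MulAut V) v := sup_le (fun a ha => hH a ha) fun a ha => hK a ha
  exact this hx

theorem eq_one_of_fixSub_eq_top {H : Subgroup (MulAut V)} (h : fixSub H = ⊤) : H = ⊥ :=
  (Subgroup.eq_bot_iff_forall H).2 fun x hx =>
    MulEquiv.ext fun v => mem_fixSub.1 (h ▸ Subgroup.mem_top v) x hx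

theorem smul_fixSub {g : MulAut V} {H : Subgroup (MulAut V)}
    (hg : ∀ x ∈ H, g⁻¹ * x * g ∈ H) : g • fixSub H ≤ fixSub H := by
  intro w hw
  obtain ⟨v, hv, rfl⟩ := (Subgroup.mem_smul_pointwise_iff_exists _ _ _).1 hw
  intro x hx
  have h1 : (g⁻¹ * x * g) v = v := hv _ (hg x hx)
  rw [MulAut.smul_def]
  calc x (g v) = g ((g⁻¹ * x * g) v) := by simp [MulAut.mul_apply]
    _ = g v := by rw [h1]

/-- `D` is a direct decomposition of `W` into nontrivial subgroups. -/
structure IsDec (W : Subgroup V) (D : Finset (Subgroup V)) : Prop where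
  ne_bot : ∀ U ∈ D, U ≠ ⊥
  sup_eq : D.sup id = W
  indep : ∀ U ∈ D, ∀ x ∈ U, x ∈ sSup {U' : Subgroup V | U' ∈ D ∧ U' ≠ U} → x = 1

theorem IsDec.le {W : Subgroup V} {D : Finset (Subgroup V)} (h : IsDec W D) {U : Subgroup V}
    (hU : U ∈ D) : U ≤ W :=
  h.sup_eq ▸ Finset.le_sup (f := id) hU

theorem isDec_singleton {W : Subgroup V} (hW : W ≠ ⊥) : IsDec W {W} where
  ne_bot U hU := Finset.mem_singleton.1 hU ▸ hW
  sup_eq := Finset.sup_singleton
  indep U hU x _ hx := by
    have : {U' : Subgroup V | U' ∈ ({W} : Finset _) ∧ U' ≠ U} = ∅ :=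
      Set.eq_empty_iff_forall_notMem.2 fun U' h' =>
        h'.2 ((Finset.mem_singleton.1 h'.1).trans (Finset.mem_singleton.1 hU).symm)
    rwa [this, sSup_empty, Subgroup.mem_bot] at hx

/-- Members of the join of a finite family are products. -/
theorem exists_prod_of_mem_sup [DecidableEq (Subgroup V)] (D : Finset (Subgroup V)) {x : V}
    (hx : x ∈ D.sup id) :
    ∃ f : Subgroup V → V, (∀ U, f U ∈ U) ∧ ∏ U ∈ D, f U = x := by
  induction D using Finset.induction_on generalizing x with
  | empty =>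
    rw [Finset.sup_empty, Subgroup.mem_bot] at hx
    exact ⟨fun _ => 1, fun U => U.one_mem, by simp [hx]⟩
  | insert U D hU ih =>
    rw [Finset.sup_insert] at hx
    obtain ⟨a, ha, b, hb, rfl⟩ := Subgroup.mem_sup.1 hx
    obtain ⟨f, hf, hprod⟩ := ih hb
    refine ⟨Function.update f U a, fun U' => ?_, ?_⟩
    · by_cases h : U' = U
      · subst h; rwa [Function.update_self]
      · rw [Function.update_of_ne h]; exact hf U'
    · rw [Finset.prod_insert hU, Function.update_self, ← hprod]
      congr 1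
      exact Finset.prod_congr rfl fun U' hU' =>
        Function.update_of_ne (fun h => by subst h; exact hU hU') _ _

theorem IsDec.eq_of_prod_eq [DecidableEq (Subgroup V)] {W : Subgroup V} {D : Finset (Subgroup V)}
    (h : IsDec W D) {f f' : Subgroup V → V} (hf : ∀ U ∈ D, f U ∈ U) (hf' : ∀ U ∈ D, f' U ∈ U)
    (he : ∏ U ∈ D, f U = ∏ U ∈ D, f' U) : ∀ U ∈ D, f U = f' U := by
  intro U hU
  have h1 : f U * (f' U)⁻¹ = ∏ U' ∈ D.erase U, f' U' * (f U')⁻¹ := by
    rw [← Finset.mul_prod_erase D f hU, ← Finset.mul_prod_erase D f' hU] at he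
    rw [Finset.prod_mul_distrib, Finset.prod_inv_distrib, eq_mul_inv_iff_mul_eq, mul_right_comm,
      mul_inv_eq_iff_eq_mul, he, mul_comm]
  refine mul_inv_eq_one.1 (h.indep U hU _ (U.mul_mem (hf U hU) (U.inv_mem (hf' U hU))) ?_)
  rw [h1]
  refine Subgroup.prod_mem _ fun U' hU' => ?_
  have hU'' := Finset.mem_of_mem_erase hU'
  exact (le_sSup (s := {U' : Subgroup V | U' ∈ D ∧ U' ≠ U}) ⟨hU'', Finset.ne_of_mem_erase hU'⟩)
    (U'.mul_mem (hf' U' hU'') (U'.inv_mem (hf U' hU'')))

theorem IsDec.card_eq [Finite V] [DecidableEq (Subgroup V)] {W : Subgroup V}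
    {D : Finset (Subgroup V)} (h : IsDec W D) : Nat.card W = ∏ U ∈ D, Nat.card U := by
  have e : Nat.card (∀ U : D, (U : Subgroup V)) = Nat.card W := by
    refine Nat.card_eq_of_bijective (fun f => ⟨∏ U : D, (f U : V), Subgroup.prod_mem _
      fun U _ => h.le U.2 (f U).2⟩) ⟨fun f f' he => ?_, fun x => ?_⟩
    · have he' := congrArg Subtype.val he
      simp only at he'
      let F : (∀ U : D, (U : Subgroup V)) → Subgroup V → V :=
        fun f U => if hU : U ∈ D then (f ⟨U, hU⟩ : V) else 1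
      have hF : ∀ f : ∀ U : D, (U : Subgroup V), ∏ U : D, (f U : V) = ∏ U ∈ D, F f U := fun f => by
        rw [← Finset.prod_coe_sort D]
        exact Finset.prod_congr rfl fun U _ => by simp [F, U.2]
      rw [hF, hF] at he'
      funext U
      refine Subtype.ext ?_
      have := h.eq_of_prod_eq (fun U hU => by simp [F, hU]) (fun U hU => by simp [F, hU]) he' U U.2
      simpa [F, U.2] using this
    · obtain ⟨f, hf, hprod⟩ := exists_prod_of_mem_sup D (x := (x : V)) (h.sup_eq.symm ▸ x.2)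
      refine ⟨fun U => ⟨f U, hf U⟩, Subtype.ext ?_⟩
      simp only
      rw [Finset.prod_coe_sort D f, hprod]
  rw [← e, Nat.card_pi, Finset.prod_coe_sort D fun U : Subgroup V => Nat.card U]

theorem smul_sSup_le (g : MulAut V) {S : Set (Subgroup V)} {x : V} (hx : x ∈ sSup S) :
    g x ∈ sSup ((g • ·) '' S) := by
  have : sSup S ≤ (sSup ((g • ·) '' S)).comap g.toMonoidHom := sSup_le fun U hU v hv =>
    (le_sSup (s := (g • ·) '' S) ⟨U, hU, rfl⟩) (Subgroup.smul_mem_pointwise_smul v g U hv)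
  exact this hx

theorem IsDec.smul [DecidableEq (Subgroup V)] {W : Subgroup V} {D : Finset (Subgroup V)}
    (h : IsDec W D) (g : MulAut V) : IsDec (g • W) (D.image (g • ·)) where
  ne_bot U hU := by
    obtain ⟨U', hU', rfl⟩ := Finset.mem_image.1 hU
    intro he
    apply h.ne_bot U' hU'
    rw [← inv_smul_smul g U', he]
    exact (Subgroup.smul_bot _)
  sup_eq := by
    rw [Finset.sup_image, ← h.sup_eq]
    refine le_antisymm (Finset.sup_le fun U hU => ?_) ?_
    · exact Subgroup.pointwise_smul_le_pointwise_smul_iff.2 (Finset.le_sup (f := id) hU)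
    · rw [Subgroup.pointwise_smul_subset_iff]
      refine Finset.sup_le fun U hU => ?_
      rw [← Subgroup.pointwise_smul_subset_iff]
      exact Finset.le_sup (f := id ∘ fun x => g • x) hU
  indep U hU x hx hx' := by
    obtain ⟨U', hU', rfl⟩ := Finset.mem_image.1 hU
    have h1 : g⁻¹ x ∈ U' := by
      rw [← MulAut.smul_def, ← Subgroup.smul_mem_pointwise_smul_iff (a := g), smul_inv_smul]
      exact hx
    have h2 := smul_sSup_le g⁻¹ hx'
    have h3 : sSup ((g⁻¹ • ·) '' {U'' : Subgroup V | U'' ∈ D.image (g • ·) ∧ U'' ≠ g • U'}) ≤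
        sSup {U'' : Subgroup V | U'' ∈ D ∧ U'' ≠ U'} := by
      refine sSup_le_sSup ?_
      rintro _ ⟨_, ⟨hm, hne⟩, rfl⟩
      obtain ⟨U₂, hU₂, rfl⟩ := Finset.mem_image.1 hm
      refine ⟨?_, ?_⟩ <;> simp only [inv_smul_smul]
      · exact hU₂
      · exact fun he => hne (he ▸ rfl)
    have h4 := h.indep U' hU' _ h1 (h3 h2)
    simpa using congrArg g h4

/-- Refining every member of a decomposition gives a decomposition. -/
theorem IsDec.bind [DecidableEq (Subgroup V)] {W : Subgroup V} {D : Finset (Subgroup V)}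
    (h : IsDec W D) {F : Subgroup V → Finset (Subgroup V)} (hF : ∀ U ∈ D, IsDec U (F U)) :
    IsDec W (D.biUnion F) ∧
      ∀ U₁ ∈ D, ∀ U₂ ∈ D, ∀ X ∈ F U₁, X ∈ F U₂ → U₁ = U₂ := by
  have huniq : ∀ U₁ ∈ D, ∀ U₂ ∈ D, ∀ X ∈ F U₁, X ∈ F U₂ → U₁ = U₂ := by
    intro U₁ h₁ U₂ h₂ X hX₁ hX₂
    by_contra hne
    refine (hF U₁ h₁).ne_bot X hX₁ ((Subgroup.eq_bot_iff_forall X).2 fun x hx => ?_)
    exact h.indep U₁ h₁ x ((hF U₁ h₁).le hX₁ hx)
      ((le_sSup (s := {U' : Subgroup V | U' ∈ D ∧ U' ≠ U₁}) ⟨h₂, Ne.symm hne⟩)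
        ((hF U₂ h₂).le hX₂ hx))
  refine ⟨⟨fun X hX => ?_, ?_, fun X hX x hx hx' => ?_⟩, huniq⟩
  · obtain ⟨U, hU, hXU⟩ := Finset.mem_biUnion.1 hX
    exact (hF U hU).ne_bot X hXU
  · rw [Finset.sup_biUnion, ← h.sup_eq]
    exact Finset.sup_congr rfl fun U hU => (hF U hU).sup_eq
  · obtain ⟨U, hU, hXU⟩ := Finset.mem_biUnion.1 hX
    have h1 : sSup {X' : Subgroup V | X' ∈ D.biUnion F ∧ X' ≠ X} ≤
        sSup {X' : Subgroup V | X' ∈ F U ∧ X' ≠ X} ⊔ sSup {U' : Subgroup V | U' ∈ D ∧ U' ≠ U} := by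
      refine sSup_le ?_
      rintro X' ⟨hX', hne⟩
      obtain ⟨U', hU', hXU'⟩ := Finset.mem_biUnion.1 hX'
      by_cases he : U' = U
      · exact le_sup_of_le_left (le_sSup ⟨he ▸ hXU', hne⟩)
      · exact le_sup_of_le_right (((hF U' hU').le hXU').trans (le_sSup ⟨hU', he⟩))
    obtain ⟨a, ha, b, hb, hab⟩ := Subgroup.mem_sup.1 (h1 hx')
    have haU : a ∈ U := (sSup_le fun X' hX' => (hF U hU).le hX'.1 :
      sSup {X' : Subgroup V | X' ∈ F U ∧ X' ≠ X} ≤ U) ha
    have hbU : b ∈ U := by
      have : b = a⁻¹ * x := by rw [← hab, inv_mul_cancel_left]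
      rw [this]
      exact U.mul_mem (U.inv_mem haU) ((hF U hU).le hXU hx)
    rw [h.indep U hU b hbU hb, mul_one] at hab
    exact (hF U hU).indep X hXU x hx (hab ▸ ha)

theorem IsDec.map [DecidableEq (Subgroup V)] {U : Subgroup V} {D : Finset (Subgroup ↥U)}
    (h : IsDec ⊤ D) : IsDec U (D.image (Subgroup.map U.subtype)) where
  ne_bot X hX := by
    obtain ⟨X', hX', rfl⟩ := Finset.mem_image.1 hX
    rw [Ne, Subgroup.map_eq_bot_iff_of_injective _ U.subtype_injective]
    exact h.ne_bot X' hX'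
  sup_eq := by
    have h1 := congrArg (Subgroup.map U.subtype) h.sup_eq
    rw [← MonoidHom.range_eq_map, Subgroup.range_subtype] at h1
    refine Eq.trans ?_ h1
    rw [Finset.sup_image]
    refine le_antisymm (Finset.sup_le fun X hX => Subgroup.map_mono (Finset.le_sup (f := id) hX)) ?_
    rw [Subgroup.map_le_iff_le_comap]
    refine Finset.sup_le fun X hX => ?_
    rw [← Subgroup.map_le_iff_le_comap]
    exact Finset.le_sup (f := id ∘ Subgroup.map U.subtype) hX
  indep X hX x hx hx' := by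
    obtain ⟨X', hX', rfl⟩ := Finset.mem_image.1 hX
    obtain ⟨y, hy, rfl⟩ := hx
    have h1 : sSup {Y : Subgroup V | Y ∈ D.image (Subgroup.map U.subtype) ∧ Y ≠ X'.map U.subtype} ≤
        (sSup {Y : Subgroup ↥U | Y ∈ D ∧ Y ≠ X'}).map U.subtype := by
      refine sSup_le ?_
      rintro Y ⟨hY, hne⟩
      obtain ⟨Y', hY', rfl⟩ := Finset.mem_image.1 hY
      exact Subgroup.map_mono (le_sSup (s := {Y : Subgroup ↥U | Y ∈ D ∧ Y ≠ X'})
        ⟨hY', fun he => hne (he ▸ rfl)⟩)
    obtain ⟨z, hz, hzy⟩ := h1 hx'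
    rw [← U.subtype_injective hzy] at hy ⊢
    simp [h.indep X' hX' z hy hz]

/-- An `L`-invariant decomposition of `V` with as many members as possible. -/
theorem exists_finest [Finite V] [Nontrivial V] (L : Subgroup (MulAut V)) :
    ∃ D : Finset (Subgroup V), IsDec ⊤ D ∧ (∀ g ∈ L, ∀ U ∈ D, g • U ∈ D) ∧
      ∀ U ∈ D, ∀ E : Finset (Subgroup V), IsDec U E →
        (∀ g ∈ L, g • U = U → ∀ X ∈ E, g • X ∈ E) → E.card ≤ 1 := by
  classical
  haveI : Fintype (Subgroup V) := Fintype.ofFinite _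
  set S := (Finset.univ : Finset (Finset (Subgroup V))).filter
    (fun D => IsDec ⊤ D ∧ ∀ g ∈ L, ∀ U ∈ D, g • U ∈ D) with hS
  have hne : S.Nonempty := ⟨{⊤}, Finset.mem_filter.2 ⟨Finset.mem_univ _,
    isDec_singleton top_ne_bot, fun g _ U hU => by
      rw [Finset.mem_singleton] at hU ⊢
      subst hU
      exact eq_top_iff.2 fun v _ => by
        rw [← smul_inv_smul g v]; exact Subgroup.smul_mem_pointwise_smul _ _ _ trivial⟩⟩
  obtain ⟨D, hD, hmax⟩ := Finset.exists_max_image S Finset.card hne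
  obtain ⟨-, hdec, hinv⟩ := Finset.mem_filter.1 hD
  refine ⟨D, hdec, hinv, fun U hU E hE hEinv => ?_⟩
  by_contra hcard
  push Not at hcard
  set F : Subgroup V → Finset (Subgroup V) := fun U' =>
    if h : ∃ g ∈ L, g • U = U' then E.image (h.choose • ·) else {U'} with hFdef
  have hF : ∀ U' ∈ D, IsDec U' (F U') := fun U' hU' => by
    simp only [hFdef]
    split
    · next h =>
      have h1 := hE.smul h.choose
      rw [h.choose_spec.2] at h1
      exact h1
    · exact isDec_singleton (hdec.ne_bot U' hU')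
  obtain ⟨hdec', huniq⟩ := hdec.bind hF
  have hinv' : ∀ g ∈ L, ∀ X ∈ D.biUnion F, g • X ∈ D.biUnion F := by
    intro g hg X hX
    obtain ⟨U', hU', hXU⟩ := Finset.mem_biUnion.1 hX
    refine Finset.mem_biUnion.2 ⟨g • U', hinv g hg U' hU', ?_⟩
    simp only [hFdef] at hXU ⊢
    by_cases h : ∃ g₁ ∈ L, g₁ • U = U'
    · rw [dif_pos h] at hXU
      obtain ⟨h1L, h1⟩ := h.choose_spec
      have h' : ∃ g₂ ∈ L, g₂ • U = g • U' := ⟨g * h.choose, L.mul_mem hg h1L, by rw [mul_smul, h1]⟩
      obtain ⟨h2L, h2⟩ := h'.choose_spec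
      rw [dif_pos h']
      obtain ⟨X₀, hX₀, rfl⟩ := Finset.mem_image.1 hXU
      refine Finset.mem_image.2 ⟨(h'.choose⁻¹ * (g * h.choose)) • X₀,
        hEinv _ (L.mul_mem (L.inv_mem h2L) (L.mul_mem hg h1L)) ?_ X₀ hX₀, ?_⟩
      · rw [mul_smul, mul_smul, h1, inv_smul_eq_iff, h2]
      · rw [mul_smul, mul_smul, smul_inv_smul]
    · rw [dif_neg h, Finset.mem_singleton] at hXU
      have h' : ¬ ∃ g₂ ∈ L, g₂ • U = g • U' := fun ⟨g₂, hg₂, he⟩ =>
        h ⟨g⁻¹ * g₂, L.mul_mem (L.inv_mem hg) hg₂, by rw [mul_smul, he, inv_smul_smul]⟩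
      rw [dif_neg h', Finset.mem_singleton, hXU]
  have hle := hmax _ (Finset.mem_filter.2 ⟨Finset.mem_univ _, hdec', hinv'⟩)
  have hlt : D.card < (D.biUnion F).card := by
    rw [Finset.card_biUnion fun U₁ h₁ U₂ h₂ hne => Finset.disjoint_left.2 fun X hX₁ hX₂ =>
      hne (huniq U₁ h₁ U₂ h₂ X hX₁ hX₂)]
    rw [Finset.card_eq_sum_ones]
    refine Finset.sum_lt_sum (fun U' hU' => ?_) ⟨U, hU, ?_⟩
    · refine Finset.card_pos.2 (Finset.nonempty_iff_ne_empty.2 fun he => hdec.ne_bot U' hU' ?_)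
      rw [← (hF U' hU').sup_eq, he, Finset.sup_empty]
    · have h : ∃ g ∈ L, g • U = U := ⟨1, L.one_mem, one_smul _ _⟩
      simp only [hFdef, dif_pos h]
      rw [Finset.card_image_of_injective _ (MulAction.injective _)]
      exact hcard
  omega

section Coprime

variable [Finite V] {p : ℕ} [hp : Fact p.Prime] (hV : (Nat.card V).Coprime p)

include hV

theorem eq_one_of_pow_eq_one {x : V} {k : ℕ} (hx : x ^ p ^ k = 1) : x = 1 :=
  orderOf_eq_one_iff.1 <| Nat.eq_one_of_dvd_coprimes (hV.pow_right k)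
    (orderOf_dvd_natCard x) (orderOf_dvd_of_pow_eq_one hx)

theorem mem_of_pow_mem {S : Subgroup V} {x : V} (h : x ^ p ∈ S) : x ∈ S := by
  obtain ⟨m, hm⟩ := exists_pow_eq_self_of_coprime (x := x) (n := p)
    (Nat.Coprime.coprime_dvd_right (orderOf_dvd_natCard x) hV.symm)
  exact hm ▸ S.pow_mem h m

/-- The product of the translates of `x` by the elements of an abelian group `H`. -/
theorem prod_smul_mem_fixSub (H : Subgroup (MulAut V)) [Fintype H] (x : V) :
    ∏ h : H, (h : MulAut V) x ∈ fixSub H := by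
  intro g hg
  rw [map_prod]
  exact Fintype.prod_equiv (Equiv.mulLeft (⟨g, hg⟩ : H)) _ _ fun h => by simp [MulAut.mul_apply]

/-- Fixed points of `H` and elements killed by the norm of `H` decompose `V`. -/
theorem exists_isDec_fix {H : Subgroup (MulAut V)} (hH : IsPGroup p H) (hne : H ≠ ⊥)
    (hfix : fixSub H ≠ ⊥) :
    ∃ E : Finset (Subgroup V), IsDec ⊤ E ∧ E.card = 2 ∧
      ∀ g : MulAut V, (∀ x ∈ H, g * x * g⁻¹ ∈ H) → (∀ x ∈ H, g⁻¹ * x * g ∈ H) →
        ∀ X ∈ E, g • X ∈ E := by
  classical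
  haveI : Fintype H := Fintype.ofFinite _
  let τ : V →* V :=
    { toFun := fun x => ∏ h : H, (h : MulAut V) x
      map_one' := by simp
      map_mul' := fun x y => by simp only [map_mul, Finset.prod_mul_distrib] }
  obtain ⟨k, hk⟩ := IsPGroup.iff_card.1 hH
  have hτfix : ∀ x ∈ fixSub H, τ x = x ^ p ^ k := fun x hx => by
    change ∏ h : H, (h : MulAut V) x = _
    rw [Finset.prod_congr rfl fun (h : H) _ => hx h h.2, Finset.prod_const, Finset.card_univ,
      ← Nat.card_eq_fintype_card, hk]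
  have hdisj : ∀ x ∈ fixSub H, x ∈ τ.ker → x = 1 := fun x hx hx' =>
    eq_one_of_pow_eq_one hV (k := k) (by rw [← hτfix x hx]; exact hx')
  have hker : τ.ker ≠ ⊥ := by
    intro he
    refine hne (eq_one_of_fixSub_eq_top (eq_top_iff.2 fun x _ => ?_))
    intro g hg
    have h1 : g x * x⁻¹ ∈ τ.ker := by
      rw [MonoidHom.mem_ker, map_mul, map_inv, mul_inv_eq_one]
      exact Fintype.prod_equiv (Equiv.mulRight (⟨g, hg⟩ : H)) _ _ fun h => by simp [MulAut.mul_apply]
    rw [he, Subgroup.mem_bot, mul_inv_eq_one] at h1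
    exact h1
  have hne2 : fixSub H ≠ τ.ker := fun he =>
    hfix ((Subgroup.eq_bot_iff_forall _).2 fun x hx => hdisj x hx (he ▸ hx))
  refine ⟨{fixSub H, τ.ker}, ⟨fun U hU => ?_, ?_, fun U hU x hx hx' => ?_⟩,
    Finset.card_pair hne2, fun g hg hg' X hX => ?_⟩
  · rcases Finset.mem_insert.1 hU with h | h
    · exact h ▸ hfix
    · exact Finset.mem_singleton.1 h ▸ hker
  · rw [Finset.sup_insert, Finset.sup_singleton]
    refine eq_top_iff.2 fun x _ => ?_
    have hsurj : ∀ y : V, ∃ z, z ^ p ^ k = y := fun y =>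
      ((powCoprime (G := V) (hV.pow_right k)).surjective y)
    obtain ⟨z, hz⟩ := hsurj x
    have h1 : τ z ∈ fixSub H := prod_smul_mem_fixSub hV H z
    have h2 : z ^ p ^ k * (τ z)⁻¹ ∈ τ.ker := by
      rw [MonoidHom.mem_ker, map_mul, map_inv, map_pow, hτfix _ h1, mul_inv_cancel]
    exact Subgroup.mem_sup.2 ⟨_, h1, _, h2, by rw [hz]; exact mul_inv_cancel_comm_assoc _ _⟩
  · rcases Finset.mem_insert.1 hU with h | h
    · subst h
      refine hdisj x hx ?_
      refine (sSup_le ?_ : sSup _ ≤ τ.ker) hx'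
      rintro U' ⟨hU', hne'⟩
      rcases Finset.mem_insert.1 hU' with h' | h'
      · exact absurd h' hne'
      · exact (Finset.mem_singleton.1 h').le
    · rw [Finset.mem_singleton] at h
      subst h
      refine hdisj x ?_ hx
      refine (sSup_le ?_ : sSup _ ≤ fixSub H) hx'
      rintro U' ⟨hU', hne'⟩
      rcases Finset.mem_insert.1 hU' with h' | h'
      · exact h'.le
      · exact absurd (Finset.mem_singleton.1 h') hne'
  · have hcomm : ∀ x, τ (g x) = g (τ x) := fun x => by
      change ∏ h : H, (h : MulAut V) (g x) = g (∏ h : H, (h : MulAut V) x)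
      rw [map_prod]
      refine Fintype.prod_equiv
        ⟨fun h => ⟨g⁻¹ * h * g, hg' h h.2⟩, fun h => ⟨g * h * g⁻¹, hg h h.2⟩,
          fun h => Subtype.ext (by group), fun h => Subtype.ext (by group)⟩ _ _ fun h => ?_
      simp [MulAut.mul_apply]
    rcases Finset.mem_insert.1 hX with h | h
    · subst h
      refine Finset.mem_insert.2 (Or.inl (le_antisymm (smul_fixSub hg') ?_))
      rw [Subgroup.subset_pointwise_smul_iff]
      exact smul_fixSub (g := g⁻¹) (by simpa using hg)
    · rw [Finset.mem_singleton] at h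
      subst h
      refine Finset.mem_insert.2 (Or.inr (Finset.mem_singleton.2 ?_))
      ext y
      rw [Subgroup.mem_pointwise_smul_iff_inv_smul_mem, MulAut.smul_def, MonoidHom.mem_ker,
        MonoidHom.mem_ker]
      have := hcomm (g⁻¹ y)
      rw [MulAut.apply_inv_self] at this
      rw [this]
      exact ⟨fun h => by rw [h, map_one], fun h => g.injective (by rw [h, map_one])⟩

theorem mem_of_exists_ext {N M : Subgroup (MulAut V)} (hN : IsElementaryAbelian p N) (hM : M ≤ N)
    {a b : MulAut V} (ha : a ∈ N) (haM : a ∉ M) (hb : b ∈ N)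
    (hbM : b ∉ M ⊔ Subgroup.zpowers a) {S : Subgroup V}
    (hS : ∀ M', M ≤ M' → M' ≤ N → M' ≠ M → fixSub M' ≤ S) {w : V} (hw : w ∈ fixSub M) : w ∈ S := by
  classical
  haveI : NeZero p := ⟨hp.out.ne_zero⟩
  have hcomm : ∀ x ∈ N, ∀ y ∈ N, x * y = y * x := fun x hx y hy =>
    PGroup.mul_comm_of_elementaryAbelian hN hx hy
  have hTfix : ∀ (c : MulAut V) (u : V), c ∈ N → c ∉ M → u ∈ fixSub M →
      (∏ k : ZMod p, (c ^ k.val) u) ∈ S := by
    intro c u hc hcM hu
    refine hS (M ⊔ Subgroup.zpowers c) le_sup_left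
      (sup_le hM (Subgroup.zpowers_le.2 hc))
      (fun he => hcM (he ▸ Subgroup.mem_sup_right (Subgroup.mem_zpowers c))) ?_
    rw [fixSub_sup]
    refine ⟨Subgroup.prod_mem _ fun k _ => fun h hh => ?_, ?_⟩
    · rw [← MulAut.mul_apply, hcomm h (hM hh) _ (N.pow_mem hc _), MulAut.mul_apply, hu h hh]
    · intro h hh
      have : Subgroup.zpowers c ≤ MulAction.stabilizer (MulAut V) (∏ k : ZMod p, (c ^ k.val) u) := by
        rw [Subgroup.zpowers_le, MulAction.mem_stabilizer_iff, MulAut.smul_def, map_prod]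
        refine Fintype.prod_equiv (Equiv.addLeft (1 : ZMod p)) _ _ fun k => ?_
        rw [← MulAut.mul_apply, ← pow_succ', Equiv.coe_addLeft, ZMod.val_add, ← pow_eq_pow_mod _
          (hN.2 c hc), ZMod.val_one, add_comm 1 k.val]
      exact this hh
  have hbM' : b ∉ M := fun h => hbM (Subgroup.mem_sup_left h)
  have hapow : ∀ x ∈ N, ∀ m : ℕ, x ^ m = x ^ (m % p) := fun x hx m => pow_eq_pow_mod _ (hN.2 x hx)
  set f : ZMod p → ZMod p → V := fun k j => (a ^ k.val * b ^ j.val) w with hf
  set T : V := ∏ k : ZMod p, ∏ j : ZMod p, f k j with hT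
  have hTS : T ∈ S := by
    have hinner : ∀ k : ZMod p, (∏ j : ZMod p, f k j) = (a ^ k.val) (∏ j : ZMod p, (b ^ j.val) w) :=
      fun k => by rw [map_prod]; exact Finset.prod_congr rfl fun j _ => by simp [hf, MulAut.mul_apply]
    rw [hT, Finset.prod_congr rfl fun k _ => hinner k]
    refine hTfix a _ ha haM ?_
    exact Subgroup.prod_mem _ fun j _ h hh => by
      rw [← MulAut.mul_apply, hcomm h (hM hh) _ (N.pow_mem hb _), MulAut.mul_apply, hw h hh]
  have hline : ∀ i : ZMod p, (∏ k : ZMod p, f k (k * i)) ∈ S := by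
    intro i
    have hc : a * b ^ i.val ∈ N := N.mul_mem ha (N.pow_mem hb _)
    have hcM : a * b ^ i.val ∉ M := by
      intro h
      rcases eq_or_ne i 0 with rfl | hi
      · rw [ZMod.val_zero, pow_zero, mul_one] at h
        exact haM h
      · refine hbM ?_
        have h1 : b ^ i.val ∈ M ⊔ Subgroup.zpowers a := by
          rw [← inv_mul_cancel_left a (b ^ i.val)]
          exact mul_mem (inv_mem (Subgroup.mem_sup_right (Subgroup.mem_zpowers a)))
            (Subgroup.mem_sup_left h)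
        have h2 : b ^ (i.val * (i⁻¹).val) = b := by
          rw [hapow b hb, ← ZMod.val_mul, mul_inv_cancel₀ hi, ZMod.val_one, pow_one]
        rw [← h2, pow_mul]
        exact pow_mem h1 _
    have := hTfix _ w hc hcM hw
    convert this using 2 with k
    rw [hf]
    simp only
    rw [(Commute.mul_pow (hcomm a ha _ (N.pow_mem hb _))), ← pow_mul,
      hapow b hb (i.val * k.val), ← ZMod.val_mul, mul_comm i k]
  have hlast : (∏ j : ZMod p, f 0 j) ∈ S := by
    have := hTfix b w hb hbM' hw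
    convert this using 2 with j
    simp [hf]
  have hsplit : ∀ k : ZMod p, k ≠ 0 → (∏ i : ZMod p, f k (k * i)) = ∏ j : ZMod p, f k j := fun k hk =>
    Fintype.prod_equiv (Equiv.mulLeft₀ k hk) _ _ fun _ => rfl
  have key : (∏ i : ZMod p, ∏ k : ZMod p, f k (k * i)) * (∏ j : ZMod p, f 0 j) = w ^ p * T := by
    rw [Finset.prod_comm, ← Finset.mul_prod_erase _ _ (Finset.mem_univ (0 : ZMod p)), hT,
      ← Finset.mul_prod_erase _ (fun k => ∏ j : ZMod p, f k j) (Finset.mem_univ (0 : ZMod p)),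
      Finset.prod_congr rfl fun k hk => hsplit k (Finset.ne_of_mem_erase hk)]
    have h0 : (∏ i : ZMod p, f 0 (0 * i)) = w ^ p := by
      simp [hf, ZMod.card]
    rw [h0]
    ac_rfl
  refine mem_of_pow_mem hV ?_
  have h : (∏ i : ZMod p, ∏ k : ZMod p, f k (k * i)) * (∏ j : ZMod p, f 0 j) * T⁻¹ ∈ S :=
    S.mul_mem (S.mul_mem (S.prod_mem fun i _ => hline i) hlast) (S.inv_mem hTS)
  rw [key, mul_inv_cancel_right] at h
  exact h

/-- The decomposition by the fixed points of the subgroups of index `p`. -/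
theorem exists_isDec_elementary {N : Subgroup (MulAut V)} (hN : IsElementaryAbelian p N)
    (hfix : fixSub N = ⊥) :
    ∃ E : Finset (Subgroup V), IsDec ⊤ E ∧
      (∀ X ∈ E, ∃ H : Subgroup (MulAut V), H ≤ N ∧ Nat.card H * p = Nat.card N ∧ fixSub H = X) ∧
      (∀ H : Subgroup (MulAut V), H ≤ N → Nat.card H * p = Nat.card N → fixSub H ≠ ⊥ →
        fixSub H ∈ E) := by
  classical
  haveI : Fintype (Subgroup V) := Fintype.ofFinite _
  have hNp := PGroup.isPGroup_of_elementaryAbelian hN
  haveI : Finite (MulAut V) := inferInstance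
  set E := (Finset.univ : Finset (Subgroup V)).filter (fun X => X ≠ ⊥ ∧
    ∃ H : Subgroup (MulAut V), H ≤ N ∧ Nat.card H * p = Nat.card N ∧ fixSub H = X) with hE
  have hmem : ∀ H : Subgroup (MulAut V), H ≤ N → Nat.card H * p = Nat.card N → fixSub H ≠ ⊥ →
      fixSub H ∈ E := fun H h1 h2 h3 =>
    Finset.mem_filter.2 ⟨Finset.mem_univ _, h3, H, h1, h2, rfl⟩
  have hgen : ∀ (n : ℕ) (M : Subgroup (MulAut V)), M ≤ N → Nat.card N - Nat.card M = n →
      fixSub M ≤ E.sup id := by
    intro n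
    induction n using Nat.strong_induction_on with
    | _ n ih =>
      intro M hM hn
      have hup : ∀ M', M ≤ M' → M' ≤ N → M' ≠ M → fixSub M' ≤ E.sup id := by
        intro M' h1 h2 h3
        have hlt : Nat.card M < Nat.card M' := by
          refine lt_of_le_of_ne (Subgroup.card_le_of_le h1) fun he => h3 ?_
          exact (Subgroup.eq_of_le_of_card_ge h1 he.ge).symm
        exact ih _ (by have := Subgroup.card_le_of_le h2; omega) M' h2 rfl
      by_cases hMN : M = N
      · rw [hMN, hfix]; exact bot_le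
      obtain ⟨a, ha, haM⟩ := SetLike.exists_of_lt (lt_of_le_of_ne hM hMN)
      by_cases hb : N ≤ M ⊔ Subgroup.zpowers a
      · have h1 : Nat.card M * p = Nat.card N := by
          obtain ⟨i, hi⟩ := IsPGroup.iff_card.1 (hNp.to_le hM)
          obtain ⟨j, hj⟩ := IsPGroup.iff_card.1 hNp
          have hlt : Nat.card M < Nat.card N := by
            refine lt_of_le_of_ne (Subgroup.card_le_of_le hM) fun he => hMN ?_
            exact Subgroup.eq_of_le_of_card_ge hM he.ge
          have hle : Nat.card N ≤ Nat.card M * p := by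
            refine (Subgroup.card_le_of_le hb).trans ?_
            haveI : Finite (MulAut V) := inferInstance
            refine le_trans ?_ (Nat.mul_le_mul_left _ (Nat.le_of_dvd hp.out.pos
              (Nat.card_zpowers a ▸ orderOf_dvd_of_pow_eq_one (hN.2 a ha))))
            refine (Coprime.card_sup_of_le_normalizer (fun x hx => ?_) ?_).le
            · refine Subgroup.mem_normalizer_iff.2 fun y => ?_
              have hc : ∀ y ∈ N, x * y * x⁻¹ = y := fun y hy => by
                rw [PGroup.mul_comm_of_elementaryAbelian hN (hM hx) hy, mul_inv_cancel_right]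
              have hle := Subgroup.zpowers_le.2 ha
              refine ⟨fun h => by rw [hc y (hle h)]; exact h, fun h => ?_⟩
              have h' : x * (x * y * x⁻¹) * x⁻¹ = x * y * x⁻¹ := hc _ (hle h)
              rw [mul_left_inj, mul_right_inj] at h'
              rwa [h'] at h
            · refine (Subgroup.eq_bot_iff_forall _).2 ?_
              rintro x ⟨hx, hx'⟩
              by_contra hx1
              have hord : orderOf a = p := orderOf_eq_prime (hN.2 a ha) fun h => haM (h ▸ M.one_mem)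
              have hz : Subgroup.zpowers x = Subgroup.zpowers a := Subgroup.eq_of_le_of_card_ge
                (Subgroup.zpowers_le.2 hx') (by
                  rw [Nat.card_zpowers, Nat.card_zpowers, hord,
                    orderOf_eq_prime (hN.2 x (hM hx)) hx1])
              exact haM (Subgroup.zpowers_le.2 hx (hz ▸ Subgroup.mem_zpowers a))
          rw [hi, hj] at hlt hle ⊢
          have h2 : i < j := (Nat.pow_lt_pow_iff_right hp.out.one_lt).1 hlt
          rw [← pow_succ] at hle ⊢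
          have h3 : j ≤ i + 1 := (Nat.pow_le_pow_iff_right hp.out.one_lt).1 hle
          rw [show j = i + 1 by omega]
        by_cases h2 : fixSub M = ⊥
        · rw [h2]; exact bot_le
        · exact Finset.le_sup (f := id) (hmem M hM h1 h2)
      · obtain ⟨b, hb, hbM⟩ := SetLike.not_le_iff_exists.1 hb
        exact fun w hw => mem_of_exists_ext hV hN hM ha haM hb hbM hup hw
  refine ⟨E, ⟨fun X hX => (Finset.mem_filter.1 hX).2.1, ?_, ?_⟩,
    fun X hX => (Finset.mem_filter.1 hX).2.2, hmem⟩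
  · refine top_le_iff.1 ((fixSub_bot (V := V)).ge.trans (hgen _ ⊥ bot_le rfl))
  · intro X hX x hx hx'
    obtain ⟨-, -, H, hH, hHc, rfl⟩ := Finset.mem_filter.1 hX
    haveI : Fintype H := Fintype.ofFinite _
    let τ : V →* V :=
      { toFun := fun y => ∏ h : H, (h : MulAut V) y
        map_one' := by simp
        map_mul' := fun y z => by simp only [map_mul, Finset.prod_mul_distrib] }
    have hle : sSup {U : Subgroup V | U ∈ E ∧ U ≠ fixSub H} ≤ τ.ker := by
      refine sSup_le ?_
      rintro U ⟨hU, hUne⟩ y hy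
      obtain ⟨-, -, H', hH', hH'c, rfl⟩ := Finset.mem_filter.1 hU
      have hne' : H' ≠ H := fun he => hUne (he ▸ rfl)
      have hsup : H ⊔ H' = N := by
        refine Subgroup.eq_of_le_of_card_ge (sup_le hH hH') ?_
        obtain ⟨i, hi⟩ := IsPGroup.iff_card.1 (hNp.to_le hH)
        obtain ⟨j, hj⟩ := IsPGroup.iff_card.1 (hNp.to_le (sup_le hH hH'))
        have hlt : Nat.card H < Nat.card (H ⊔ H' : Subgroup _) := by
          refine lt_of_le_of_ne (Subgroup.card_le_of_le le_sup_left) fun he => hne' ?_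
          have h1 : H = H ⊔ H' := Subgroup.eq_of_le_of_card_ge le_sup_left he.ge
          refine Subgroup.eq_of_le_of_card_ge (h1.symm ▸ le_sup_right) ?_
          exact le_of_eq (Nat.eq_of_mul_eq_mul_right hp.out.pos (hHc.trans hH'c.symm))
        rw [← hHc, hi, hj] at *
        rw [← pow_succ]
        exact Nat.pow_le_pow_right hp.out.pos ((Nat.pow_lt_pow_iff_right hp.out.one_lt).1 hlt)
      rw [MonoidHom.mem_ker, ← Subgroup.mem_bot, ← hfix, ← hsup, fixSub_sup]
      refine ⟨prod_smul_mem_fixSub hV H y, Subgroup.prod_mem _ fun h _ k hk => ?_⟩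
      rw [← MulAut.mul_apply, PGroup.mul_comm_of_elementaryAbelian hN (hH' hk) (hH h.2),
        MulAut.mul_apply, hy k hk]
    obtain ⟨i, hi⟩ := IsPGroup.iff_card.1 (hNp.to_le hH)
    refine eq_one_of_pow_eq_one hV (k := i) ?_
    have h1 : τ x = x ^ Nat.card H := by
      change ∏ h : H, (h : MulAut V) x = _
      rw [Finset.prod_congr rfl fun (h : H) _ => hx h h.2, Finset.prod_const, Finset.card_univ,
        Nat.card_eq_fintype_card]
    rw [← hi, ← h1]
    exact hle hx'

end Coprime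

end Cfsg.Agent.RegularOrbit
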