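import Cfsg.Agent.Lib.RegularOrbit.Decomposition
import Cfsg.Agent.Lib.PGroup.Extraspecial
import Cfsg.Agent.Lib.PGroup.ElementaryAbelian
import Cfsg.Agent.Lib.PGroup.Basic
import Cfsg.Agent.Lib.TI.Extraspecial
import Cfsg.Agent.Lib.PGroup.Critical
import Cfsg.Agent.Lib.RankTwo.Basic
import Cfsg.Agent.Lib.LinRep.PPowerOrbitsBasic

/-!
# Groups of symplectic type and fixed-point-free vectors

* `exists_omega`: in a `p`-group, `p` odd, all of whose characteristic elementary abelian subgroups
  are cyclic, the elements of order dividing `p` form a subgroup that is cyclic or extraspecial.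
* `exists_vector`: if such a group acts faithfully and coprimely on an abelian group and its
  characteristic subgroup of order `p` has no fixed points, some point is fixed by no element of
  order `p`.
-/

set_option autoImplicit false
set_option linter.style.haveILetI false
set_option linter.unusedSectionVars false

open scoped Pointwise commutatorElement

namespace Cfsg.Agent.RegularOrbit

variable {p : ℕ} [hp : Fact p.Prime]

/-- A `p`-group, `p` odd, with at most `p` solutions of `x ^ p = 1` in its second centre is cyclic. -/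
theorem isCyclic_of_second_center {C : Type*} [Group C] [Finite C] (hp2 : p ≠ 2) (hC : IsPGroup p C)
    (Z : Subgroup C) (hZ : Nat.card Z ≤ p)
    (h : ∀ x ∈ Subgroup.upperCentralSeries C 2, x ^ p = 1 → x ∈ Z) : IsCyclic C := by
  rcases LinRep.PPowerOrbits.exists_elementary_or_cyclic hC with ⟨E, hEn, hE, hEc⟩ | hcyc | ⟨h2, -⟩
  · exfalso
    haveI := hEn
    have hE1 : E ≠ ⊥ := fun he => by
      rw [he, Subgroup.card_bot] at hEc
      exact (Nat.one_lt_pow two_ne_zero hp.out.one_lt).ne hEc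
    have h1 := PGroup.commutator_top_lt hC E hE1
    have h2 : ⁅⁅E, (⊤ : Subgroup C)⁆, (⊤ : Subgroup C)⁆ = ⊥ := by
      by_contra hne
      haveI : ⁅E, (⊤ : Subgroup C)⁆.Normal := inferInstance
      have h1' : ⁅E, (⊤ : Subgroup C)⁆ ≠ ⊥ := fun he => hne (by rw [he, Subgroup.commutator_bot_left])
      have h3 := PGroup.commutator_top_lt hC _ h1'
      have c1 : Nat.card ↥⁅E, (⊤ : Subgroup C)⁆ < Nat.card E := by
        refine lt_of_le_of_ne (Subgroup.card_le_of_le h1.le) fun he => h1.ne ?_
        exact Subgroup.eq_of_le_of_card_ge h1.le he.ge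
      have c2 : Nat.card ↥⁅⁅E, (⊤ : Subgroup C)⁆, (⊤ : Subgroup C)⁆ <
          Nat.card ↥⁅E, (⊤ : Subgroup C)⁆ := by
        refine lt_of_le_of_ne (Subgroup.card_le_of_le h3.le) fun he => h3.ne ?_
        exact Subgroup.eq_of_le_of_card_ge h3.le he.ge
      obtain ⟨i, hi⟩ := IsPGroup.iff_card.1 (hC.to_subgroup ⁅E, (⊤ : Subgroup C)⁆)
      obtain ⟨j, hj⟩ := IsPGroup.iff_card.1 (hC.to_subgroup ⁅⁅E, (⊤ : Subgroup C)⁆, (⊤ : Subgroup C)⁆)
      rw [hi, hEc] at c1
      rw [hi, hj] at c2
      have d1 := (Nat.pow_lt_pow_iff_right hp.out.one_lt).1 c1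
      have d2 := (Nat.pow_lt_pow_iff_right hp.out.one_lt).1 c2
      have hj0 : j = 0 := by omega
      exact hne (Subgroup.card_eq_one.1 (by rw [hj, hj0, pow_zero]))
    have hle : E ≤ Z := fun e he => by
      refine h e (Subgroup.mem_upperCentralSeries_succ_iff.2 fun y => ?_) (hE.2 e he)
      rw [Subgroup.upperCentralSeries_one, Subgroup.mem_center_iff]
      intro g
      have hmem : ⁅⁅e, y⁆, g⁆ ∈ ⁅⁅E, (⊤ : Subgroup C)⁆, (⊤ : Subgroup C)⁆ :=
        Subgroup.commutator_mem_commutator (Subgroup.commutator_mem_commutator he (Subgroup.mem_top y))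
          (Subgroup.mem_top g)
      rw [h2, Subgroup.mem_bot, commutatorElement_eq_one_iff_mul_comm] at hmem
      exact hmem.symm
    have := (Subgroup.card_le_of_le hle).trans hZ
    rw [hEc, pow_two] at this
    nlinarith [hp.out.one_lt]
  · exact hcyc
  · exact absurd h2 hp2

theorem map_center_characteristic {Q : Type*} [Group Q] (T : Subgroup Q) [hT : T.Characteristic] :
    ((Subgroup.center ↥T).map T.subtype).Characteristic := by
  have heq : (Subgroup.center ↥T).map T.subtype = T ⊓ Subgroup.centralizer (T : Set Q) := by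
    ext z
    constructor
    · rintro ⟨w, hw, rfl⟩
      exact ⟨w.2, fun a ha => congrArg Subtype.val (Subgroup.mem_center_iff.mp hw ⟨a, ha⟩)⟩
    · rintro ⟨hzT, hzC⟩
      exact ⟨⟨z, hzT⟩, Subgroup.mem_center_iff.mpr fun a => Subtype.ext (hzC a a.2), rfl⟩
  rw [heq]
  exact PGroup.inf_centralizer_characteristic T

theorem exists_omega {Q : Type*} [Group Q] [Finite Q] [Nontrivial Q] (hp2 : p ≠ 2) (hQ : IsPGroup p Q)
    (hyp : ∀ N : Subgroup Q, N.Characteristic → IsElementaryAbelian p N → Nat.card N ≤ p) :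
    ∃ T Z : Subgroup Q, Z.Characteristic ∧ IsElementaryAbelian p Z ∧ Nat.card Z = p ∧
      (∀ x : Q, x ^ p = 1 → x ∈ T) ∧ (∀ x ∈ T, x ^ p = 1) ∧
      (T = Z ∨ IsExtraspecial p T ∧ (Subgroup.center ↥T).map T.subtype = Z) := by
  classical
  set U := Subgroup.upperCentralSeries Q 2 with hU
  set T := omegaOne p U with hTdef
  haveI hTc : T.Characteristic := PGroup.omegaOne_characteristic U
  have hUc : ∀ x ∈ U, ∀ y : Q, ⁅x, y⁆ ∈ Subgroup.center Q := fun x hx y => by
    have := Subgroup.mem_upperCentralSeries_succ_iff.1 hx y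
    rwa [Subgroup.upperCentralSeries_one] at this
  have hclU : commutator ↥U ≤ Subgroup.center ↥U := by
    rw [commutator_def, Subgroup.commutator_le]
    intro a _ b _
    rw [Subgroup.mem_center_iff]
    intro g
    exact Subtype.ext (Subgroup.mem_center_iff.1 (hUc a a.2 b) g)
  have hTU : T ≤ U := PGroup.omegaOne_le U
  have hTexp : ∀ x ∈ T, x ^ p = 1 := by
    have hle : T ≤ (Subgroup.closure {y : ↥U | y ^ p = 1}).map U.subtype := by
      rw [hTdef, PGroup.omegaOne_le_iff]
      exact fun y hy hyp' => ⟨⟨y, hy⟩, Subgroup.subset_closure (Subtype.ext hyp'), rfl⟩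
    intro x hx
    obtain ⟨y, hy, rfl⟩ := hle hx
    have := PGroup.pow_eq_one_of_mem_closure hp.out hp2 hclU
      (s := {y : ↥U | y ^ p = 1}) (fun _ h => h) hy
    exact congrArg Subtype.val this
  set Z := T ⊓ Subgroup.center Q with hZdef
  haveI hZc : Z.Characteristic := by
    rw [Subgroup.characteristic_iff_comap_eq]
    intro φ
    rw [hZdef, Subgroup.comap_inf, Subgroup.characteristic_iff_comap_eq.1 hTc φ,
      Subgroup.characteristic_iff_comap_eq.1 inferInstance φ]
  have hZea : IsElementaryAbelian p Z :=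
    PGroup.isElementaryAbelian_of_forall
      (fun a ha b _ => (Subgroup.mem_center_iff.1 ha.2 b).symm) fun a ha => hTexp a ha.1
  have hmemZ : ∀ x ∈ Subgroup.center Q, x ^ p = 1 → x ∈ Z := fun x hx hxp =>
    ⟨PGroup.mem_omegaOne_of_pow_eq_one (by
      refine Subgroup.upperCentralSeries_mono Q (show 1 ≤ 2 by norm_num) ?_
      rw [Subgroup.upperCentralSeries_one]; exact hx) hxp, hx⟩
  have hZcard : Nat.card Z = p := by
    refine le_antisymm (hyp Z hZc hZea) ?_
    haveI := hQ.center_nontrivial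
    have hd : p ∣ Nat.card (Subgroup.center Q) :=
      ((hQ.to_subgroup _).card_eq_or_dvd).resolve_left (Finite.one_lt_card).ne'
    obtain ⟨⟨z, hz⟩, hzo⟩ := exists_prime_orderOf_dvd_card' p hd
    have hzo' : orderOf z = p := by rw [← hzo, Subgroup.orderOf_mk]
    have hzZ := hmemZ z hz (hzo' ▸ pow_orderOf_eq_one z)
    calc p = orderOf z := hzo'.symm
      _ = Nat.card (Subgroup.zpowers z) := (Nat.card_zpowers z).symm
      _ ≤ Nat.card Z := Subgroup.card_le_of_le (Subgroup.zpowers_le.2 hzZ)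
  have hCZ : (Subgroup.center ↥T).map T.subtype = Z := by
    refine (Subgroup.eq_of_le_of_card_ge ?_ ?_).symm
    · exact fun z hz => ⟨⟨z, hz.1⟩, Subgroup.mem_center_iff.2 fun a =>
        Subtype.ext (Subgroup.mem_center_iff.1 hz.2 a), rfl⟩
    · rw [hZcard]
      refine hyp _ (map_center_characteristic T) (PGroup.isElementaryAbelian_of_forall ?_ ?_)
      · rintro _ ⟨a, ha, rfl⟩ _ ⟨b, -, rfl⟩
        exact congrArg Subtype.val (Subgroup.mem_center_iff.1 ha b).symm
      · rintro _ ⟨a, -, rfl⟩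
        exact hTexp a a.2
  by_cases hTZ : T = Z
  · refine ⟨T, Z, hZc, hZea, hZcard, fun x hx => ?_, hTexp, Or.inl hTZ⟩
    haveI := isCyclic_of_second_center hp2 hQ Z hZcard.le fun x hx hxp =>
      hTZ ▸ (PGroup.mem_omegaOne_of_pow_eq_one hx hxp : x ∈ T)
    have hcomm : IsMulCommutative Q := IsCyclic.isMulCommutative
    exact hTZ.symm ▸ hmemZ x (Subgroup.mem_center_iff.2 fun g => mul_comm' g x) hx
  have hTp : IsPGroup p ↥T := hQ.to_subgroup T
  have hZ' : Nat.card (Subgroup.center ↥T) = p := by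
    rw [← hZcard, ← hCZ, Subgroup.card_map_of_injective T.subtype_injective]
  have hcomm : commutator ↥T = Subgroup.center ↥T := by
    have hle : commutator ↥T ≤ Subgroup.center ↥T := by
      rw [commutator_def, Subgroup.commutator_le]
      intro a _ b _
      rw [Subgroup.mem_center_iff]
      intro g
      exact Subtype.ext (Subgroup.mem_center_iff.1 (hUc a (hTU a.2) b) g)
    haveI : Fact (Nat.card (Subgroup.center ↥T)).Prime := ⟨hZ'.symm ▸ hp.out⟩
    rcases Subgroup.eq_bot_or_eq_top_of_prime_card ((commutator ↥T).subgroupOf (Subgroup.center ↥T))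
      with h | h
    · exfalso
      refine hTZ ?_
      rw [Subgroup.subgroupOf_eq_bot, disjoint_iff, inf_eq_left.2 hle] at h
      refine le_antisymm (fun x hx => ?_) inf_le_left
      rw [← hCZ, (commutator_eq_bot_iff_center_eq_top ↥T).1 h]
      exact ⟨⟨x, hx⟩, trivial, rfl⟩
    · exact le_antisymm hle (Subgroup.subgroupOf_eq_top.1 h)
  have hfr : frattini ↥T = Subgroup.center ↥T := by
    rw [PGroup.frattini_eq hTp, hcomm, sup_eq_left, Subgroup.closure_le]
    rintro _ ⟨x, rfl⟩
    have : x ^ p = 1 := Subtype.ext (hTexp x x.2)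
    simp only [SetLike.mem_coe, this]
    exact one_mem _
  have hext : IsExtraspecial p ↥T := ⟨⟨hTp, hfr, hcomm⟩, hZ'⟩
  refine ⟨T, Z, hZc, hZea, hZcard, fun x hx => ?_, hTexp, Or.inr ⟨hext, hCZ⟩⟩
  have hTC : T ⊓ Subgroup.centralizer (T : Set Q) = Z := by
    rw [← hCZ]
    ext z
    constructor
    · rintro ⟨hzT, hzC⟩
      exact ⟨⟨z, hzT⟩, Subgroup.mem_center_iff.mpr fun a => Subtype.ext (hzC a a.2), rfl⟩
    · rintro ⟨w, hw, rfl⟩
      exact ⟨w.2, fun a ha => congrArg Subtype.val (Subgroup.mem_center_iff.mp hw ⟨a, ha⟩)⟩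
  have hsup := PGroup.sup_centralizer_eq_top T hext (hTC.le.trans inf_le_right) (by
    rw [Subgroup.commutator_le, hTC]
    intro g _ e he
    have h1 : ⁅g, e⁆ ∈ T := by
      rw [commutatorElement_def]
      exact T.mul_mem (Subgroup.Normal.conj_mem inferInstance e he g) (T.inv_mem he)
    refine ⟨h1, ?_⟩
    rw [← commutatorElement_inv e g]
    exact Subgroup.inv_mem (Subgroup.center Q) (hUc e (hTU he) g))
  set C := Subgroup.centralizer (T : Set Q) with hCdef
  have hcent : ∀ c ∈ C, ∀ t ∈ T, Commute t c := fun c hc t ht => hc t ht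
  have hdec : ∀ y : Q, ∃ t ∈ T, ∃ c ∈ C, t * c = y := fun y =>
    (Coprime.mem_sup_iff_of_le_normalizer' (H := C) (N := T)
      (Subgroup.centralizer_le_normalizer _)).1 ((sup_comm T C ▸ hsup).symm ▸ Subgroup.mem_top y)
  haveI hCcyc : IsCyclic ↥C := by
    refine isCyclic_of_second_center hp2 (hQ.to_subgroup C) (Z.subgroupOf C) ?_ fun c hc hcp => ?_
    · rw [← hZcard, ← Subgroup.card_map_of_injective C.subtype_injective]
      exact Subgroup.card_le_of_le (by rw [Subgroup.map_subgroupOf_eq_of_le]; exact hTC.ge.trans inf_le_right)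
    · have hcU : (c : Q) ∈ U := Subgroup.mem_upperCentralSeries_succ_iff.2 fun y => by
        obtain ⟨t, ht, d, hd, rfl⟩ := hdec y
        have h1 := Subgroup.mem_upperCentralSeries_succ_iff.1 hc ⟨d, hd⟩
        rw [Subgroup.upperCentralSeries_one] at h1 ⊢
        have h2 : ⁅(c : Q), t * d⁆ = t * ⁅(c : Q), d⁆ * t⁻¹ := by
          have := (hcent c c.2 t ht).eq
          simp only [commutatorElement_def, _root_.mul_inv_rev]
          rw [← mul_assoc (c : Q) t d, ← this]
          group
        have hm : ⁅(c : Q), d⁆ ∈ C := (⁅c, (⟨d, hd⟩ : C)⁆ : C).2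
        rw [h2, (hcent _ hm t ht).eq, mul_inv_cancel_right,
          Subgroup.mem_center_iff]
        intro g
        obtain ⟨t', ht', d', hd', rfl⟩ := hdec g
        have e1 : Commute t' ⁅(c : Q), d⁆ := hcent _ hm t' ht'
        have e2 : Commute d' ⁅(c : Q), d⁆ :=
          congrArg Subtype.val (Subgroup.mem_center_iff.1 h1 ⟨d', hd'⟩)
        exact (e1.mul_left e2).eq
      have : (c : Q) ∈ T := PGroup.mem_omegaOne_of_pow_eq_one hcU (congrArg Subtype.val hcp)
      exact Subgroup.mem_subgroupOf.2 (hTC ▸ ⟨this, c.2⟩)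
  obtain ⟨t, ht, c, hc, rfl⟩ := hdec x
  rw [(hcent c hc t ht).mul_pow, hTexp t ht, one_mul] at hx
  refine T.mul_mem ht ?_
  have hcC : IsMulCommutative ↥C := IsCyclic.isMulCommutative
  have hcc : c ∈ Subgroup.center Q := Subgroup.mem_center_iff.2 fun g => by
    obtain ⟨t', ht', d', hd', rfl⟩ := hdec g
    have e2 : Commute d' c := congrArg Subtype.val (mul_comm' (⟨d', hd'⟩ : C) ⟨c, hc⟩)
    exact ((hcent c hc t' ht').mul_left e2).eq
  exact (hmemZ c hcc hx).1

theorem le_normalizer_of_commute {G : Type*} [Group G] {H K : Subgroup G}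
    (h : ∀ x ∈ H, ∀ y ∈ K, x * y = y * x) : H ≤ Subgroup.normalizer (K : Set G) :=
  (Subgroup.le_centralizer_iff.1 fun y hy x hx => h x hx y hy).trans
    (Subgroup.centralizer_le_normalizer _)

variable {W : Type*} [CommGroup W] [Finite W]

theorem le_card_fixed {Z : Subgroup (MulAut W)} (hZ : Nat.card Z = p) (hfix : fixSub Z = ⊥)
    {X : Subgroup W} (hX : X ≠ ⊥) (hinv : ∀ z ∈ Z, ∀ w ∈ X, z w ∈ X) : p + 1 ≤ Nat.card X := by
  classical
  obtain ⟨w, hw, hw1⟩ := X.ne_bot_iff_exists_ne_one.1 hX |> fun ⟨⟨w, hw⟩, h⟩ =>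
    (⟨w, hw, fun e => h (Subtype.ext e)⟩ : ∃ w ∈ X, w ≠ 1)
  haveI : Fact (Nat.card Z).Prime := ⟨hZ.symm ▸ hp.out⟩
  let f : Option Z → X := fun o => o.elim 1 fun z => ⟨(z : MulAut W) w, hinv z z.2 w hw⟩
  have hf : Function.Injective f := by
    rintro (_ | a) (_ | b) h
    · rfl
    · exact absurd ((b : MulAut W).injective ((congrArg Subtype.val h).symm.trans (map_one _).symm)) hw1
    · exact absurd ((a : MulAut W).injective ((congrArg Subtype.val h).trans (map_one _).symm)) hw1
    · refine congrArg some ?_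
      by_contra hne
      have h1 : Subgroup.zpowers (b⁻¹ * a) = ⊤ :=
        (Subgroup.eq_bot_or_eq_top_of_prime_card _).resolve_left fun he =>
          hne (inv_mul_eq_one.1 (Subgroup.mem_bot.1 (he ▸ Subgroup.mem_zpowers (b⁻¹ * a)))).symm
      refine hw1 (Subgroup.mem_bot.1 (hfix ▸ fun z hz => ?_))
      have h2 : Subgroup.zpowers ((b : MulAut W)⁻¹ * a) ≤ MulAction.stabilizer (MulAut W) w := by
        rw [Subgroup.zpowers_le, MulAction.mem_stabilizer_iff, MulAut.smul_def, MulAut.mul_apply,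
          show (a : MulAut W) w = (b : MulAut W) w from congrArg Subtype.val h,
          MulAut.inv_apply_self]
      have h3 : (⟨z, hz⟩ : Z) ∈ Subgroup.zpowers (b⁻¹ * a) := h1 ▸ Subgroup.mem_top _
      obtain ⟨k, hk⟩ := Subgroup.mem_zpowers_iff.1 h3
      have h4 : ((b : MulAut W)⁻¹ * a) ^ k = z := by simpa using congrArg Subtype.val hk
      exact h2 ⟨k, h4⟩
  have := Nat.card_le_card_of_injective f hf
  rwa [Finite.card_option, hZ] at this

variable (hW : (Nat.card W).Coprime p) (hp2 : p ≠ 2)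
include hW hp2

theorem arith_aux {n f N : ℕ} (hn : 1 ≤ n) (hN : N = p ^ (2 * n + 1))
    (hf : (p + 1) ^ p ^ n ≤ f ^ p) : (N - p) * (f - 1) < (f ^ p - 1) * (p - 1) := by
  have h3 : 3 ≤ p := lt_of_le_of_ne hp.out.two_le (Ne.symm hp2)
  have hf1 : (p + 1) ^ p ^ (n - 1) ≤ f := by
    rw [← Nat.pow_le_pow_iff_left (Nat.ne_of_gt (by omega : 0 < p)), ← pow_mul, ← pow_succ,
      Nat.sub_add_cancel hn]
    exact hf
  have hexp : ∀ m : ℕ, 2 * (m + 1) ≤ p ^ m * (p - 1) := by
    intro m
    induction m with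
    | zero => simp; omega
    | succ m ih =>
      rw [pow_succ]
      have : p ^ m * (p - 1) * 3 ≤ p ^ m * p * (p - 1) := by
        rw [mul_right_comm (p ^ m) p]; exact Nat.mul_le_mul_left _ h3
      omega
  have h1 : (p + 1) ^ (2 * n) ≤ f ^ (p - 1) := by
    refine le_trans ?_ (Nat.pow_le_pow_left hf1 _)
    rw [← pow_mul]
    have := hexp (n - 1)
    rw [Nat.sub_add_cancel hn] at this
    exact Nat.pow_le_pow_right (by omega) this
  have h2 : N ≤ (p - 1) * f ^ (p - 1) := by
    refine le_trans ?_ (Nat.mul_le_mul_left _ h1)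
    subst hN
    obtain ⟨m, rfl⟩ : ∃ m, n = m + 1 := ⟨n - 1, by omega⟩
    clear h1 hf hf1 hn
    induction m with
    | zero =>
      obtain ⟨r, rfl⟩ : ∃ r, p = r + 3 := ⟨p - 3, by omega⟩
      rw [show r + 3 - 1 = r + 2 by omega]
      ring_nf
      nlinarith
    | succ m ih =>
      calc p ^ (2 * (m + 1 + 1) + 1) = p ^ (2 * (m + 1) + 1) * p ^ 2 := by ring
        _ ≤ (p - 1) * (p + 1) ^ (2 * (m + 1)) * (p + 1) ^ 2 :=
          Nat.mul_le_mul ih (Nat.pow_le_pow_left (by omega) 2)
        _ = (p - 1) * (p + 1) ^ (2 * (m + 1 + 1)) := by ring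
  have hf2 : 2 ≤ f := by
    refine le_trans ?_ hf1
    calc 2 ≤ (p + 1) ^ 1 := by simp; omega
      _ ≤ _ := Nat.pow_le_pow_right (by omega) (Nat.one_le_pow _ _ (by omega))
  obtain ⟨g, hg⟩ : ∃ g, f ^ p = f * f ^ g ∧ f ^ (p - 1) = f ^ g := by
    exact ⟨p - 1, by rw [← pow_succ', Nat.sub_add_cancel (by omega)], rfl⟩
  rw [hg.2] at h2
  rw [hg.1]
  have hpow : 1 ≤ f ^ g := Nat.one_le_pow _ _ (by omega)
  have hNp : p ≤ N := hN ▸ Nat.le_self_pow (by omega) p
  obtain ⟨f', rfl⟩ : ∃ f', f = f' + 1 := ⟨f - 1, by omega⟩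
  simp only [Nat.add_sub_cancel] at *
  calc (N - p) * f' < N * f' := Nat.mul_lt_mul_of_pos_right (by omega) (by omega)
    _ ≤ (p - 1) * (f' + 1) ^ g * f' := Nat.mul_le_mul_right _ h2
    _ ≤ ((f' + 1) * (f' + 1) ^ g - 1) * (p - 1) := by
      rw [mul_assoc, mul_comm (p - 1)]
      refine Nat.mul_le_mul_right _ (Nat.le_sub_of_add_le ?_)
      rw [add_mul, one_mul, mul_comm]
      omega

/-- An extraspecial group of exponent `p` of automorphisms with fixed-point-free centre leaves some
point fixed by none of its non-identity elements. -/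
theorem exists_vector_extraspecial [Nontrivial W] {T : Subgroup (MulAut W)} (hT : IsExtraspecial p T)
    (hexp : ∀ x ∈ T, x ^ p = 1) (hfix : fixSub ((Subgroup.center ↥T).map T.subtype) = ⊥) :
    ∃ w : W, ∀ x ∈ T, x w = w → x = 1 := by
  classical
  haveI : Fintype W := Fintype.ofFinite _
  haveI : Fintype ↥T := Fintype.ofFinite _
  haveI : Fintype (Subgroup W) := Fintype.ofFinite _
  set Z := (Subgroup.center ↥T).map T.subtype with hZdef
  have hZc : Nat.card Z = p := by
    rw [hZdef, Subgroup.card_map_of_injective T.subtype_injective, hT.2]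
  have hZT : Z ≤ T := Subgroup.map_subtype_le _
  have hZcomm : ∀ z ∈ Z, ∀ x ∈ T, z * x = x * z := by
    rintro _ ⟨z, hz, rfl⟩ x hx
    exact congrArg Subtype.val (Subgroup.mem_center_iff.1 hz ⟨x, hx⟩).symm
  have hfixinv : ∀ {H : Subgroup (MulAut W)}, H ≤ T → ∀ z ∈ Z, ∀ w ∈ fixSub H, z w ∈ fixSub H := by
    intro H hH z hz w hw h hh
    rw [← MulAut.mul_apply, ← hZcomm z hz h (hH hh), MulAut.mul_apply, hw h hh]
  have hfixconj : ∀ (H : Subgroup (MulAut W)) (t : MulAut W),
      fixSub (MulAut.conj t • H) = t • fixSub H := by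
    intro H t
    ext w
    rw [Subgroup.mem_pointwise_smul_iff_inv_smul_mem, MulAut.smul_def, mem_fixSub, mem_fixSub]
    constructor
    · intro h x hx
      have h1 := h _ (Subgroup.smul_mem_pointwise_smul x (MulAut.conj t) H hx)
      rw [MulAut.smul_def, MulAut.conj_apply, MulAut.mul_apply, MulAut.mul_apply] at h1
      exact t.injective (by rw [h1, MulAut.apply_inv_self])
    · intro h y hy
      obtain ⟨x, hx, rfl⟩ := (Subgroup.mem_smul_pointwise_iff_exists _ _ _).1 hy
      rw [MulAut.smul_def, MulAut.conj_apply, MulAut.mul_apply, MulAut.mul_apply, h x hx,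
        MulAut.apply_inv_self]
  -- every non-central element fixes a subgroup of order `f`, `f ^ p = |W|`
  have hf : ∀ a ∈ T, a ∉ Z → Nat.card (fixSub (Subgroup.zpowers a)) ^ p = Nat.card W := by
    intro a ha haZ
    set N := Subgroup.zpowers a ⊔ Z with hN
    have hNea : IsElementaryAbelian p N := by
      refine PGroup.isElementaryAbelian_sup (PGroup.isElementaryAbelian_zpowers (hexp a ha))
        (PGroup.isElementaryAbelian_of_forall (fun x hx y hy => hZcomm x hx y (hZT hy))
          fun x hx => hexp x (hZT hx)) ?_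
      intro x hx y hy
      exact (hZcomm y hy x (Subgroup.zpowers_le.2 ha hx)).symm
    have hNfix : fixSub N = ⊥ := le_bot_iff.1 (hfix ▸ fixSub_anti le_sup_right)
    have haord : orderOf a = p := orderOf_eq_prime (hexp a ha) fun h => haZ (h ▸ Z.one_mem)
    have hconjz : ∀ z : Z, ∃ t ∈ T, t * a * t⁻¹ = a * z := by
      intro z
      obtain ⟨⟨z', hz'T⟩, hz', hzz⟩ := z.2
      have hna : (⟨a, ha⟩ : T) ∉ Subgroup.center ↥T := fun h => haZ ⟨⟨a, ha⟩, h, rfl⟩
      obtain ⟨y, hy⟩ := PGroup.exists_commutator_eq hT hna hz'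
      refine ⟨y, y.2, ?_⟩
      have h1 : ⁅(y : MulAut W), a⁆ = z := (congrArg Subtype.val hy).trans hzz
      rw [commutatorElement_def] at h1
      rw [(hZcomm z z.2 a ha).symm, ← h1]
      group
    have hNc : Nat.card N = p * p := by
      rw [hN, Coprime.card_sup_of_le_normalizer, Nat.card_zpowers, haord, hZc]
      · exact le_normalizer_of_commute fun x hx y hy =>
          (hZcomm y hy x (Subgroup.zpowers_le.2 ha hx)).symm
      · refine (Subgroup.eq_bot_iff_forall _).2 ?_
        rintro x ⟨hx, hx'⟩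
        by_contra hx1
        have hz : Subgroup.zpowers x = Subgroup.zpowers a := Subgroup.eq_of_le_of_card_ge
          (Subgroup.zpowers_le.2 hx) (by
            rw [Nat.card_zpowers, Nat.card_zpowers, haord,
              orderOf_eq_prime (hexp x (hZT hx')) hx1])
        exact haZ (Subgroup.zpowers_le.2 hx' (hz ▸ Subgroup.mem_zpowers a))
    let Hz : Z → Subgroup (MulAut W) := fun z => Subgroup.zpowers (a * z)
    have hHzT : ∀ z, Hz z ≤ N := fun z => Subgroup.zpowers_le.2
      (mul_mem (Subgroup.mem_sup_left (Subgroup.mem_zpowers a)) (Subgroup.mem_sup_right z.2))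
    have hHzfix : ∀ z : Z, ∃ t ∈ T, fixSub (Hz z) = t • fixSub (Subgroup.zpowers a) := fun z => by
      obtain ⟨t, ht, he⟩ := hconjz z
      refine ⟨t, ht, ?_⟩
      rw [← hfixconj]
      congr 1
      change _ = (Subgroup.zpowers a).map (MulAut.conj t).toMonoidHom
      rw [MonoidHom.map_zpowers]
      change Subgroup.zpowers (a * z) = Subgroup.zpowers (t * a * t⁻¹)
      rw [he]
    have hcard : ∀ z, Nat.card (fixSub (Hz z)) = Nat.card (fixSub (Subgroup.zpowers a)) := fun z => by
      obtain ⟨t, -, he⟩ := hHzfix z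
      rw [he]
      exact (Nat.card_congr (Subgroup.equivSMul t _).toEquiv).symm
    have hHcov : ∀ H : Subgroup (MulAut W), H ≤ N → Nat.card H = p → H ≠ Z → ∃ z, H = Hz z := by
      intro H hH hHc hHZ
      obtain ⟨x, hx, hxZ⟩ : ∃ x ∈ H, x ∉ Z := by
        by_contra h; push Not at h
        exact hHZ (Subgroup.eq_of_le_of_card_ge h (by rw [hHc, hZc]))
      obtain ⟨u, hu, z, hz, rfl⟩ := (Coprime.mem_sup_iff_of_le_normalizer' (H := Z)
        (N := Subgroup.zpowers a) (le_normalizer_of_commute fun y hy v hv =>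
          hZcomm y hy v (Subgroup.zpowers_le.2 ha hv))).1 (show x ∈ Z ⊔ Subgroup.zpowers a by rw [sup_comm]; exact hH hx)
      obtain ⟨k, hk⟩ := (isOfFinOrder_of_finite a).mem_zpowers_iff_mem_range_orderOf.1 hu |>
        fun h => (Finset.mem_image.1 h)
      obtain ⟨hkr, rfl⟩ := hk
      have hk0 : k ≠ 0 := fun h => hxZ (by rw [h, pow_zero, one_mul]; exact hz)
      rw [Finset.mem_range, haord] at hkr
      obtain ⟨l, hl⟩ := Nat.exists_mul_mod_eq_one_of_coprime
        ((Nat.coprime_primes hp.out hp.out).not.2 (by simp) |> fun _ =>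
          (hp.out.coprime_iff_not_dvd.2 (Nat.not_dvd_of_pos_of_lt (Nat.pos_of_ne_zero hk0) hkr)).symm)
        hp.out.one_lt |> fun ⟨l, _, hl⟩ => (⟨l, hl⟩ : ∃ l, k * l % p = 1)
      refine ⟨⟨z ^ l, Z.pow_mem hz l⟩, (Subgroup.eq_of_le_of_card_ge ?_ ?_).symm⟩
      · rw [Subgroup.zpowers_le]
        have h3 : (a ^ k * z) ^ l = a * z ^ l := by
          rw [(show Commute (a ^ k) z from (hZcomm z hz _ (T.pow_mem ha k)).symm).mul_pow, ← pow_mul,
            pow_eq_pow_mod _ (hexp a ha), hl, pow_one]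
        exact h3 ▸ H.pow_mem hx l
      · rw [hHc, Nat.card_zpowers, orderOf_eq_prime (hNea.2 _ (hHzT _ (Subgroup.mem_zpowers _)))]
        intro h
        exact haZ (eq_inv_of_mul_eq_one_left h ▸ Z.inv_mem (Z.pow_mem hz l))
    obtain ⟨E, hE, hEsub, hEmem⟩ := exists_isDec_elementary hW hNea hNfix
    have hHzc : ∀ z : Z, Nat.card (Hz z) = p := fun z => by
      rw [Nat.card_zpowers, orderOf_eq_prime (hNea.2 _ (hHzT _ (Subgroup.mem_zpowers _)))]
      intro h
      exact haZ (eq_inv_of_mul_eq_one_left h ▸ Z.inv_mem z.2)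
    have hne : fixSub (Subgroup.zpowers a) ≠ ⊥ := by
      intro hbot
      have hE0 : E = ∅ := by
        refine Finset.eq_empty_of_forall_notMem fun X hX => ?_
        obtain ⟨H, hH, hHc, rfl⟩ := hEsub X hX
        have hHc' : Nat.card H = p := Nat.eq_of_mul_eq_mul_right hp.out.pos (hHc.trans hNc)
        obtain ⟨z, rfl⟩ := hHcov H hH hHc' fun h => hE.ne_bot _ hX (h ▸ hfix)
        exact hE.ne_bot _ hX (Subgroup.card_eq_one.1 (by rw [hcard, hbot, Subgroup.card_bot]))
      have := hE.sup_eq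
      rw [hE0, Finset.sup_empty] at this
      exact bot_ne_top this
    have hEimg : E = (Finset.univ : Finset Z).image fun z => fixSub (Hz z) := by
      ext X
      constructor
      · intro hX
        obtain ⟨H, hH, hHc, rfl⟩ := hEsub X hX
        have hHc' : Nat.card H = p := Nat.eq_of_mul_eq_mul_right hp.out.pos (hHc.trans hNc)
        obtain ⟨z, rfl⟩ := hHcov H hH hHc' fun h => hE.ne_bot _ hX (h ▸ hfix)
        exact Finset.mem_image_of_mem _ (Finset.mem_univ z)
      · intro hX
        obtain ⟨z, -, rfl⟩ := Finset.mem_image.1 hX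
        refine hEmem _ (hHzT z) (by rw [hHzc, hNc]) fun h => hne ?_
        exact Subgroup.card_eq_one.1 (by rw [← hcard z, h, Subgroup.card_bot])
    have hinj : Function.Injective fun z : Z => fixSub (Hz z) := by
      intro z z' h
      by_contra hzz
      refine hne (Subgroup.card_eq_one.1 ?_)
      rw [← hcard z]
      refine Subgroup.card_eq_one.2 (le_bot_iff.1 (hfix ▸ ?_))
      intro w hw y hy
      have hw' : w ∈ fixSub (Hz z') := by
        have h' : fixSub (Hz z) = fixSub (Hz z') := h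
        exact h' ▸ hw
      have hsub : Hz z ⊔ Hz z' ≤ MulAction.stabilizer (MulAut W) w :=
        sup_le (fun x hx => hw x hx) fun x hx => hw' x hx
      have hzmem : ((z : MulAut W))⁻¹ * z' ∈ Hz z ⊔ Hz z' := by
        rw [show ((z : MulAut W))⁻¹ * z' = (a * z)⁻¹ * (a * z') by group]
        exact mul_mem (inv_mem (Subgroup.mem_sup_left (Subgroup.mem_zpowers _)))
          (Subgroup.mem_sup_right (Subgroup.mem_zpowers _))
      have hgen : Subgroup.zpowers ((z : MulAut W)⁻¹ * z') = Z := by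
        refine Subgroup.eq_of_le_of_card_ge
          (Subgroup.zpowers_le.2 (Z.mul_mem (Z.inv_mem z.2) z'.2)) ?_
        rw [hZc, Nat.card_zpowers, orderOf_eq_prime
          (hexp _ (hZT (Z.mul_mem (Z.inv_mem z.2) z'.2)))
          fun h => hzz (Subtype.ext (inv_mul_eq_one.1 h))]
      exact Subgroup.zpowers_le.2 (hsub hzmem) (hgen.symm ▸ hy)
    have := hE.card_eq
    rw [Subgroup.card_top, hEimg, Finset.prod_image fun z _ z' _ h => hinj h,
      Finset.prod_congr rfl fun z _ => hcard z, Finset.prod_const, Finset.card_univ,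
      ← Nat.card_eq_fintype_card, hZc] at this
    exact this.symm
  -- lower bound from a maximal abelian subgroup
  obtain ⟨n, hn, hTc, hmaxc⟩ := PGroup.extraspecial_card hT
  obtain ⟨A, hZA, hA, hAmax⟩ := PGroup.exists_le_maximal_abelian (A := Subgroup.center ↥T)
    (PGroup.isMulCommutative_of_forall (A := Subgroup.center ↥T)
      fun a ha b _ => (Subgroup.mem_center_iff.1 ha b).symm)
  have hAc := hmaxc A hA hAmax
  have hself := PGroup.centralizer_eq_of_maximal_abelian hA hAmax
  set A' := A.map T.subtype with hA'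
  have hA'ea : IsElementaryAbelian p A' := by
    have h0 : IsElementaryAbelian p A := ⟨hA, fun x _ => Subtype.ext (hexp x x.2)⟩
    exact PGroup.isElementaryAbelian_map (f := T.subtype) h0
  have hA'fix : fixSub A' = ⊥ := le_bot_iff.1 (hfix ▸ fixSub_anti (Subgroup.map_mono hZA))
  obtain ⟨E, hE, hEsub, hEmem⟩ := exists_isDec_elementary hW hA'ea hA'fix
  have hA'c : Nat.card A' = p ^ (n + 1) := by
    rw [hA', Subgroup.card_map_of_injective T.subtype_injective, hAc]
  have hAn : ∀ t ∈ T, MulAut.conj t • A' = A' := by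
    intro t ht
    refine Subgroup.eq_of_le_of_card_ge ?_ (le_of_eq (Nat.card_congr (Subgroup.equivSMul _ _).toEquiv))
    intro x hx
    obtain ⟨_, ⟨b, hb, rfl⟩, rfl⟩ := (Subgroup.mem_smul_pointwise_iff_exists _ _ _).1 hx
    refine ⟨⁅⟨t, ht⟩, b⁆ * b, A.mul_mem (hZA (PGroup.special_commutator_mem_center hT.1 _ _)) hb, ?_⟩
    simp [commutatorElement_def]
  have hEn : p ^ n ≤ E.card := by
    obtain ⟨X, hX⟩ := Finset.nonempty_iff_ne_empty.2 fun h0 : E = ∅ => by
      have := hE.sup_eq
      rw [h0, Finset.sup_empty] at this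
      exact bot_ne_top this
    obtain ⟨H, hH, hHc, rfl⟩ := hEsub X hX
    have hfib : ∀ t s : ↥T, MulAut.conj (t : MulAut W) • H = MulAut.conj (s : MulAut W) • H →
        s⁻¹ * t ∈ A := by
      intro t s he
      rw [← hself, Subgroup.mem_centralizer_iff]
      set u := s⁻¹ * t with hu
      have huH : MulAut.conj (u : MulAut W) • H = H := by
        rw [hu, Subgroup.coe_mul, map_mul, mul_smul, he, ← mul_smul, ← map_mul, Subgroup.coe_inv,
          inv_mul_cancel, map_one, one_smul]
      have hHZ : H ⊓ Z = ⊥ := by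
        refine (Subgroup.eq_bot_iff_forall _).2 ?_
        rintro x ⟨hx, hxZ⟩
        by_contra hx1
        refine hE.ne_bot _ hX (le_bot_iff.1 (hfix ▸ fixSub_anti ?_))
        have : Subgroup.zpowers x = Z := Subgroup.eq_of_le_of_card_ge (Subgroup.zpowers_le.2 hxZ)
          (by rw [hZc, Nat.card_zpowers, orderOf_eq_prime (hexp x (hZT hxZ)) hx1])
        exact this ▸ Subgroup.zpowers_le.2 hx
      have hsup : H ⊔ Z = A' := by
        refine Subgroup.eq_of_le_of_card_ge (sup_le hH (Subgroup.map_mono hZA)) ?_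
        rw [Coprime.card_sup_of_le_normalizer ?_ hHZ, hZc, hHc]
        exact le_normalizer_of_commute fun x hx y hy =>
          (hZcomm y hy x ((Subgroup.map_subtype_le A) (hH hx))).symm
      intro b hb
      have hle : A' ≤ Subgroup.centralizer {(u : MulAut W)} := by
        rw [← hsup, sup_le_iff]
        constructor
        · intro h hh
          rw [Subgroup.mem_centralizer_singleton_iff]
          have h1 : (u : MulAut W) * h * (u : MulAut W)⁻¹ * h⁻¹ ∈ H ⊓ Z := by
            refine ⟨H.mul_mem ?_ (H.inv_mem hh), ?_⟩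
            · have := Subgroup.smul_mem_pointwise_smul h (MulAut.conj (u : MulAut W)) H hh
              rwa [huH] at this
            · exact ⟨⁅u, (⟨h, (Subgroup.map_subtype_le A) (hH hh)⟩ : T)⁆,
                PGroup.special_commutator_mem_center hT.1 _ _, rfl⟩
          rw [hHZ, Subgroup.mem_bot, mul_inv_eq_one, mul_inv_eq_iff_eq_mul] at h1
          exact h1.symm
        · intro z hz
          rw [Subgroup.mem_centralizer_singleton_iff]
          exact hZcomm z hz u u.2
      exact Subtype.ext (Subgroup.mem_centralizer_singleton_iff.1 (hle ⟨b, hb, rfl⟩))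
    set img := (Finset.univ : Finset ↥T).image fun t : ↥T => fixSub (MulAut.conj (t : MulAut W) • H)
    have himg : img ⊆ E := by
      intro Y hY
      obtain ⟨t, -, rfl⟩ := Finset.mem_image.1 hY
      refine hEmem _ ?_ ?_ ?_
      · rw [← hAn t t.2]; exact Subgroup.pointwise_smul_le_pointwise_smul_iff.2 hH
      · rw [← Nat.card_congr (Subgroup.equivSMul _ H).toEquiv, hHc]
      · rw [hfixconj]
        intro h
        apply hE.ne_bot _ hX
        rw [← inv_smul_smul (t : MulAut W) (fixSub H), h]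
        exact Subgroup.smul_bot _
    have hle : Nat.card ↥T ≤ Nat.card A * img.card := by
      rw [Nat.card_eq_fintype_card, ← Finset.card_univ]
      refine Finset.card_le_mul_card_image _ _ fun Y hY => ?_
      obtain ⟨s, -, rfl⟩ := Finset.mem_image.1 hY
      haveI : Fintype A := Fintype.ofFinite _
      rw [Nat.card_eq_fintype_card, ← Finset.card_univ]
      refine Finset.card_le_card_of_surjOn (fun b : A => s * (b : T)) fun t ht => ?_
      rw [Finset.mem_coe, Finset.mem_filter] at ht
      refine ⟨⟨s⁻¹ * t, hfib t s ?_⟩, Finset.mem_coe.2 (Finset.mem_univ _), mul_inv_cancel_left s t⟩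
      have h1 : ∀ u : ↥T, Nat.card (MulAut.conj (u : MulAut W) • H : Subgroup _) * p = Nat.card A' :=
        fun u => by rw [← Nat.card_congr (Subgroup.equivSMul _ H).toEquiv, hHc]
      have h2 : ∀ u : ↥T, MulAut.conj (u : MulAut W) • H ≤ A' := fun u => by
        rw [← hAn u u.2]; exact Subgroup.pointwise_smul_le_pointwise_smul_iff.2 hH
      by_contra hne
      have h3 : MulAut.conj (t : MulAut W) • H ⊔ MulAut.conj (s : MulAut W) • H = A' := by
        refine Subgroup.eq_of_le_of_card_ge (sup_le (h2 t) (h2 s)) ?_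
        obtain ⟨i, hi⟩ := IsPGroup.iff_card.1
          ((PGroup.isPGroup_of_elementaryAbelian hA'ea).to_le (h2 t))
        obtain ⟨j, hj⟩ := IsPGroup.iff_card.1
          ((PGroup.isPGroup_of_elementaryAbelian hA'ea).to_le (sup_le (h2 t) (h2 s)))
        have hlt : Nat.card (MulAut.conj (t : MulAut W) • H : Subgroup _) <
            Nat.card (MulAut.conj (t : MulAut W) • H ⊔ MulAut.conj (s : MulAut W) • H : Subgroup _) := by
          refine lt_of_le_of_ne (Subgroup.card_le_of_le le_sup_left) fun he => hne ?_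
          have h4 := Subgroup.eq_of_le_of_card_ge le_sup_left he.ge
          refine (Subgroup.eq_of_le_of_card_ge (h4.symm ▸ le_sup_right) ?_).symm
          exact le_of_eq (Nat.eq_of_mul_eq_mul_right hp.out.pos ((h1 t).trans (h1 s).symm))
        rw [← h1 t, hi, hj] at *
        rw [← pow_succ]
        exact Nat.pow_le_pow_right hp.out.pos ((Nat.pow_lt_pow_iff_right hp.out.one_lt).1 hlt)
      refine hE.ne_bot _ (himg (Finset.mem_image_of_mem _ (Finset.mem_univ s))) ?_
      rw [← le_bot_iff, ← hA'fix, ← h3, fixSub_sup, ht.2]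
      exact le_inf le_rfl le_rfl
    rw [hTc, hAc] at hle
    have h5 : p ^ (n + 1) * p ^ n ≤ p ^ (n + 1) * img.card := by
      rw [← pow_add]; exact le_trans (le_of_eq (by ring)) hle
    exact (Nat.le_of_mul_le_mul_left h5 (pow_pos hp.out.pos _)).trans (Finset.card_le_card himg)
  have hlow : (p + 1) ^ p ^ n ≤ Nat.card W := by
    have h1 := hE.card_eq
    rw [Subgroup.card_top] at h1
    rw [h1]
    refine le_trans (Nat.pow_le_pow_right (by omega) hEn) (Finset.pow_card_le_prod _ _ _ fun X hX => ?_)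
    obtain ⟨H, hH, -, rfl⟩ := hEsub X hX
    exact le_card_fixed hZc hfix (hE.ne_bot _ hX)
      (hfixinv (hH.trans (Subgroup.map_subtype_le A)))
  -- counting
  obtain ⟨a₀, ha₀, ha₀Z⟩ : ∃ a ∈ T, a ∉ Z := by
    by_contra h; push Not at h
    have h1 : Nat.card ↥T ≤ p := hZc ▸ Subgroup.card_le_of_le h
    rw [hTc] at h1
    have : p ^ 2 ≤ p ^ (2 * n + 1) := Nat.pow_le_pow_right hp.out.pos (by omega)
    nlinarith [hp.out.one_lt]
  set f := Nat.card (fixSub (Subgroup.zpowers a₀)) with hfdef
  have hfa : ∀ a ∈ T, a ∉ Z → Nat.card (fixSub (Subgroup.zpowers a)) = f := fun a ha haZ =>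
    Nat.pow_left_injective hp.out.ne_zero ((hf a ha haZ).trans (hf a₀ ha₀ ha₀Z).symm)
  by_contra hcon
  push Not at hcon
  set S := (Finset.univ : Finset ↥T).filter fun x => x ∉ Subgroup.center ↥T with hS
  set Ω := (Finset.univ : Finset W).filter fun w => w ≠ 1 with hΩ
  have hmem : ∀ x : ↥T, x ∈ Subgroup.center ↥T ↔ (x : MulAut W) ∈ Z := fun x =>
    ⟨fun h => ⟨x, h, rfl⟩, fun ⟨y, hy, he⟩ => Subtype.ext he ▸ hy⟩
  have hlo : ∀ w ∈ Ω, p - 1 ≤ (S.filter fun x : ↥T => (x : MulAut W) w = w).card := by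
    intro w hw
    have hw1 := (Finset.mem_filter.1 hw).2
    obtain ⟨x, hx, hxw, hx1⟩ := hcon w
    have hord : orderOf x = p := orderOf_eq_prime (hexp x hx) hx1
    have hxpow : ∀ i ∈ Finset.Icc 1 (p - 1), x ^ i ≠ 1 := fun i hi h => by
      rw [Finset.mem_Icc] at hi
      have := Nat.le_of_dvd (by omega) (orderOf_dvd_of_pow_eq_one h)
      omega
    have hfixpow : ∀ i : ℕ, (x ^ i) w = w := fun i => by
      induction i with
      | zero => rfl
      | succ i ih => rw [pow_succ, MulAut.mul_apply, hxw, ih]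
    have hsub : (Finset.Icc 1 (p - 1)).image (fun i => (⟨x, hx⟩ : ↥T) ^ i) ⊆
        S.filter fun x : ↥T => (x : MulAut W) w = w := by
      intro y hy
      obtain ⟨i, hi, rfl⟩ := Finset.mem_image.1 hy
      refine Finset.mem_filter.2 ⟨Finset.mem_filter.2 ⟨Finset.mem_univ _, fun hc => ?_⟩, ?_⟩
      · have hz : x ^ i ∈ Z := by simpa using (hmem _).1 hc
        have : Subgroup.zpowers (x ^ i) = Z := Subgroup.eq_of_le_of_card_ge (Subgroup.zpowers_le.2 hz)
          (by rw [hZc, Nat.card_zpowers, orderOf_eq_prime (hexp _ (hZT hz)) (hxpow i hi)])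
        refine hw1 (Subgroup.mem_bot.1 (hfix ▸ fun z hzZ => ?_))
        have hst : Subgroup.zpowers (x ^ i) ≤ MulAction.stabilizer (MulAut W) w :=
          Subgroup.zpowers_le.2 (hfixpow i)
        exact hst (this.symm ▸ hzZ)
      · simpa using hfixpow i
    refine le_trans ?_ (Finset.card_le_card hsub)
    rw [Finset.card_image_of_injOn, Nat.card_Icc]
    · omega
    · intro i hi j hj h
      have hi' := Finset.mem_Icc.1 hi
      have hj' := Finset.mem_Icc.1 hj
      have h' : x ^ i = x ^ j := by simpa using congrArg Subtype.val h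
      refine pow_injOn_Iio_orderOf (x := x) ?_ ?_ h' <;> rw [Set.mem_Iio, hord] <;> omega
  have hhi : ∀ x ∈ S, (Ω.filter fun w : W => (x : MulAut W) w = w).card ≤ f - 1 := by
    intro x hx
    have hxZ : (x : MulAut W) ∉ Z := fun h => (Finset.mem_filter.1 hx).2 ((hmem x).2 h)
    haveI : Fintype (fixSub (Subgroup.zpowers (x : MulAut W))) := Fintype.ofFinite _
    rw [← hfa x x.2 hxZ, Nat.card_eq_fintype_card, Fintype.card_of_subtype
      ((Finset.univ : Finset W).filter fun w => (x : MulAut W) w = w) fun w => ?_]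
    · refine Nat.le_sub_one_of_lt (Finset.card_lt_card ⟨fun w hw => ?_, fun h => ?_⟩)
      · exact Finset.mem_filter.2 ⟨Finset.mem_univ _, (Finset.mem_filter.1 hw).2⟩
      · have := h (Finset.mem_filter.2 ⟨Finset.mem_univ 1, map_one _⟩)
        exact (Finset.mem_filter.1 (Finset.mem_filter.1 this).1).2 rfl
    · rw [Finset.mem_filter]
      refine ⟨fun h y hy => ?_, fun h => ⟨Finset.mem_univ _, h _ (Subgroup.mem_zpowers _)⟩⟩
      have hst : Subgroup.zpowers (x : MulAut W) ≤ MulAction.stabilizer (MulAut W) w :=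
        Subgroup.zpowers_le.2 h.2
      exact hst hy
  have hdc : Ω.card * (p - 1) ≤ S.card * (f - 1) :=
    Finset.card_mul_le_card_mul (fun (w : W) (x : ↥T) => (x : MulAut W) w = w)
      hlo (fun x hx => hhi x hx)
  have hΩc : Ω.card = f ^ p - 1 := by
    rw [hΩ, Finset.filter_ne', Finset.card_erase_of_mem (Finset.mem_univ _), Finset.card_univ,
      ← Nat.card_eq_fintype_card, hfdef, hf a₀ ha₀ ha₀Z]
  have hSc : S.card = p ^ (2 * n + 1) - p := by
    haveI : Fintype (Subgroup.center ↥T) := Fintype.ofFinite _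
    rw [hS, Finset.filter_not, Finset.card_sdiff_of_subset (Finset.filter_subset _ _),
      Finset.card_univ, ← Nat.card_eq_fintype_card, hTc, ← Fintype.card_subtype,
      ← Nat.card_eq_fintype_card]
    congr 1
    exact hT.2
  rw [hΩc, hSc] at hdc
  exact absurd hdc (not_le.2 (arith_aux hW hp2 hn rfl (hlow.trans (hf a₀ ha₀ ha₀Z).ge)))

/-- In a `p`-group of automorphisms, `p` odd, all of whose nontrivial characteristic elementary
abelian subgroups have order `p` and no fixed points, some point is fixed by no element of order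
`p`. -/
theorem exists_vector [Nontrivial W] {Q : Subgroup (MulAut W)} (hQ : IsPGroup p Q)
    (hyp : ∀ N : Subgroup ↥Q, N.Characteristic → IsElementaryAbelian p N → N ≠ ⊥ →
      Nat.card N ≤ p ∧ fixSub (N.map Q.subtype) = ⊥) :
    ∃ w : W, ∀ x ∈ Q, x ^ p = 1 → x w = w → x = 1 := by
  obtain ⟨w₀, hw₀⟩ := exists_ne (1 : W)
  rcases subsingleton_or_nontrivial ↥Q with h | h
  · exact ⟨w₀, fun x hx _ _ => congrArg Subtype.val (Subsingleton.elim (⟨x, hx⟩ : Q) 1)⟩
  obtain ⟨T, Z, hZc, hZea, hZcard, hTmem, hTexp, hcase⟩ := exists_omega hp2 hQ fun N hN hNe => by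
    by_cases h : N = ⊥
    · rw [h, Subgroup.card_bot]; exact hp.out.one_lt.le
    · exact (hyp N hN hNe h).1
  have hZne : Z ≠ ⊥ := fun h => by
    rw [h, Subgroup.card_bot] at hZcard; exact hp.out.one_lt.ne hZcard
  have hZfix := (hyp Z hZc hZea hZne).2
  rcases hcase with hTZ | ⟨hext, hcen⟩
  · refine ⟨w₀, fun x hx hxp hxw => ?_⟩
    by_contra hx1
    have hxZ : (⟨x, hx⟩ : Q) ∈ Z := hTZ ▸ hTmem _ (Subtype.ext hxp)
    have hgen : Subgroup.zpowers x = Z.map Q.subtype := by
      refine Subgroup.eq_of_le_of_card_ge (Subgroup.zpowers_le.2 ⟨_, hxZ, rfl⟩) ?_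
      rw [Subgroup.card_map_of_injective Q.subtype_injective, hZcard, Nat.card_zpowers,
        orderOf_eq_prime hxp hx1]
    refine hw₀ (Subgroup.mem_bot.1 (hZfix ▸ ?_))
    rw [← hgen]
    have : Subgroup.zpowers x ≤ MulAction.stabilizer (MulAut W) w₀ := Subgroup.zpowers_le.2 hxw
    exact fun y hy => this hy
  · set e := T.equivMapOfInjective Q.subtype Q.subtype_injective
    have hext' := TI.isExtraspecial_congr e hext
    have hcen' : (Subgroup.center ↥(T.map Q.subtype)).map (T.map Q.subtype).subtype =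
        Z.map Q.subtype := by
      rw [← hcen]
      ext y
      constructor
      · rintro ⟨u, hu, rfl⟩
        refine ⟨(e.symm u : ↥Q), ⟨e.symm u, ?_, rfl⟩, ?_⟩
        · refine Subgroup.mem_center_iff.2 fun g => e.injective ?_
          rw [map_mul, map_mul, MulEquiv.apply_symm_apply]
          exact Subgroup.mem_center_iff.1 hu _
        · exact congrArg Subtype.val (e.apply_symm_apply u)
      · rintro ⟨_, ⟨v, hv, rfl⟩, rfl⟩
        refine ⟨e v, Subgroup.mem_center_iff.2 fun g => e.symm.injective ?_, rfl⟩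
        rw [map_mul, map_mul, MulEquiv.symm_apply_apply]
        exact Subgroup.mem_center_iff.1 hv _
    obtain ⟨w, hw⟩ := exists_vector_extraspecial hW hp2 hext'
      (by rintro _ ⟨y, hy, rfl⟩; exact congrArg Subtype.val (hTexp y hy)) (hcen'.symm ▸ hZfix)
    exact ⟨w, fun x hx hxp => hw x ⟨⟨x, hx⟩, hTmem _ (Subtype.ext hxp), rfl⟩⟩

end Cfsg.Agent.RegularOrbit
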