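import Cfsg.Agent.Lib.RegularOrbit.SubsetStabilizer
import Cfsg.Agent.Lib.RegularOrbit.Decomposition
import Cfsg.Agent.Lib.RegularOrbit.SymplecticType
import Cfsg.Agent.Lib.Components.Subnormal

/-!
# Coprime covering by fixed points

`eq_one_of_conj_fixed_covering`: if `L` acts faithfully and coprimely on a finite abelian group `V`,
`P` is a normal `p`-subgroup of `L`, `p` odd, and `a ∈ P` has order dividing `p` with every point of
`V` fixed by a conjugate of `a`, then `a = 1`.
-/

set_option autoImplicit false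
set_option linter.style.haveILetI false
set_option linter.unusedSectionVars false

open scoped Pointwise

namespace Cfsg.Agent.RegularOrbit

variable {V : Type*} [CommGroup V]

/-- An automorphism stabilising `U` restricted to `U`. -/
def restrictAut (U : Subgroup V) : MulAction.stabilizer (MulAut V) U →* MulAut ↥U where
  toFun g :=
    { toFun := fun u => ⟨(g : MulAut V) u, by
        have := Subgroup.smul_mem_pointwise_smul (u : V) (g : MulAut V) U u.2
        rwa [MulAction.mem_stabilizer_iff.1 g.2] at this⟩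
      invFun := fun u => ⟨((g : MulAut V))⁻¹ u, by
        have := Subgroup.smul_mem_pointwise_smul (u : V) ((g : MulAut V)⁻¹) U u.2
        rwa [MulAction.mem_stabilizer_iff.1 (inv_mem g.2)] at this⟩
      left_inv := fun u => Subtype.ext (MulAut.inv_apply_self V _ _)
      right_inv := fun u => Subtype.ext (MulAut.apply_inv_self V _ _)
      map_mul' := fun a b => Subtype.ext (map_mul (g : MulAut V) (a : V) b) }
  map_one' := rfl
  map_mul' _ _ := rfl

@[simp]
theorem restrictAut_apply (U : Subgroup V) (g : MulAction.stabilizer (MulAut V) U) (u : U) :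
    ((restrictAut U g u : U) : V) = (g : MulAut V) u := rfl

variable [Finite V] {p : ℕ} [hp : Fact p.Prime]

theorem exists_component_vector (hV : (Nat.card V).Coprime p) (hp2 : p ≠ 2)
    {L P : Subgroup (MulAut V)} (hP : IsPGroup p P)
    (hn : ∀ g ∈ L, ∀ x ∈ P, g * x * g⁻¹ ∈ P) {D : Finset (Subgroup V)} (hD : IsDec ⊤ D)
    (hfin : ∀ U ∈ D, ∀ E : Finset (Subgroup V), IsDec U E →
      (∀ g ∈ L, g • U = U → ∀ X ∈ E, g • X ∈ E) → E.card ≤ 1)
    {U : Subgroup V} (hU : U ∈ D) :
    ∃ u ∈ U, u ≠ 1 ∧ ∀ x ∈ P, x ^ p = 1 → x • U = U → x u = u → ∀ w ∈ U, x w = w := by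
  classical
  haveI : Nontrivial ↥U := (Subgroup.nontrivial_iff_ne_bot U).2 (hD.ne_bot U hU)
  set S := MulAction.stabilizer (MulAut V) U with hS
  set Q := (P.subgroupOf S).map (restrictAut U) with hQdef
  have hQp : IsPGroup p Q := (hP.comap_subtype).map _
  have hUcop : (Nat.card U).Coprime p := hV.coprime_dvd_left (Subgroup.card_subgroup_dvd_card U)
  have hsmall : ∀ E : Finset (Subgroup ↥U), IsDec ⊤ E →
      (∀ g ∈ L.subgroupOf S, ∀ X ∈ E, restrictAut U g • X ∈ E) → E.card ≤ 1 := by
    intro E hE hEinv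
    rw [← Finset.card_image_of_injective E (Subgroup.map_injective U.subtype_injective)]
    refine hfin U hU _ hE.map fun g hg hgU X hX => ?_
    obtain ⟨X', hX', rfl⟩ := Finset.mem_image.1 hX
    refine Finset.mem_image.2 ⟨restrictAut U ⟨g, MulAction.mem_stabilizer_iff.2 hgU⟩ • X',
      hEinv _ (Subgroup.mem_subgroupOf.2 hg) X' hX', ?_⟩
    ext v
    constructor
    · rintro ⟨w, hw, rfl⟩
      obtain ⟨z, hz, rfl⟩ := (Subgroup.mem_smul_pointwise_iff_exists _ _ _).1 hw
      exact Subgroup.smul_mem_pointwise_smul _ g _ ⟨z, hz, rfl⟩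
    · intro hv
      obtain ⟨_, ⟨z, hz, rfl⟩, rfl⟩ := (Subgroup.mem_smul_pointwise_iff_exists _ _ _).1 hv
      exact ⟨_, Subgroup.smul_mem_pointwise_smul z _ X' hz, rfl⟩
  have hyp : ∀ N : Subgroup ↥Q, N.Characteristic → IsElementaryAbelian p N → N ≠ ⊥ →
      Nat.card N ≤ p ∧ fixSub (N.map Q.subtype) = ⊥ := by
    intro N hN hNe hN1
    haveI := hN
    set N' := N.map Q.subtype with hN'def
    have hN'ea : IsElementaryAbelian p N' := PGroup.isElementaryAbelian_map hNe Q.subtype
    have hN'1 : N' ≠ ⊥ := by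
      rw [hN'def, Ne, Subgroup.map_eq_bot_iff_of_injective _ Q.subtype_injective]
      exact hN1
    have hinv : ∀ g ∈ L.subgroupOf S, ∀ x ∈ N', restrictAut U g * x * (restrictAut U g)⁻¹ ∈ N' ∧
        (restrictAut U g)⁻¹ * x * restrictAut U g ∈ N' := by
      intro g hg x hx
      have hgQ : restrictAut U g ∈ Subgroup.normalizer (Q : Set (MulAut ↥U)) := by
        rw [Subgroup.mem_normalizer_iff]
        intro y
        constructor
        · rintro ⟨y', hy', rfl⟩
          refine ⟨g * y' * g⁻¹, ?_, by simp⟩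
          exact Subgroup.mem_subgroupOf.2 (by simpa using hn _ hg _ (Subgroup.mem_subgroupOf.1 hy'))
        · rintro ⟨y', hy', he⟩
          refine ⟨g⁻¹ * y' * g, ?_, ?_⟩
          · refine Subgroup.mem_subgroupOf.2 ?_
            have := hn _ (L.inv_mem hg) _ (Subgroup.mem_subgroupOf.1 hy')
            simpa using this
          · rw [map_mul, map_mul, map_inv, he]
            group
      have h1 := Components.normalizer_le_normalizer_map_of_characteristic Q N hgQ
      refine ⟨(Subgroup.mem_normalizer_iff.1 h1 x).1 hx, ?_⟩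
      have h2 := (Subgroup.mem_normalizer_iff.1 (inv_mem h1) x).1 hx
      rwa [inv_inv] at h2
    have hfix : fixSub N' = ⊥ := by
      by_contra hne
      obtain ⟨E, hE, hEc, hEinv⟩ := exists_isDec_fix hUcop
        (PGroup.isPGroup_of_elementaryAbelian hN'ea) hN'1 hne
      have := hsmall E hE fun g hg X hX => hEinv _ (fun x hx => (hinv g hg x hx).1)
        (fun x hx => (hinv g hg x hx).2) X hX
      omega
    refine ⟨?_, hfix⟩
    obtain ⟨E, hE, hEsub, hEmem⟩ := exists_isDec_elementary hUcop hN'ea hfix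
    have hcard1 := hsmall E hE fun g hg X hX => by
      obtain ⟨H, hH, hHc, rfl⟩ := hEsub X hX
      have hHg : MulAut.conj (restrictAut U g) • H ≤ N' := by
        intro y hy
        obtain ⟨x, hx, rfl⟩ := (Subgroup.mem_smul_pointwise_iff_exists _ _ _).1 hy
        exact (hinv g hg x (hH hx)).1
      have heq : fixSub (MulAut.conj (restrictAut U g) • H) = restrictAut U g • fixSub H := by
        ext w
        rw [Subgroup.mem_pointwise_smul_iff_inv_smul_mem, MulAut.smul_def, mem_fixSub, mem_fixSub]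
        constructor
        · intro h x hx
          have h1 := h _ (Subgroup.smul_mem_pointwise_smul x (MulAut.conj (restrictAut U g)) H hx)
          rw [MulAut.smul_def, MulAut.conj_apply, MulAut.mul_apply, MulAut.mul_apply] at h1
          exact (restrictAut U g).injective (by rw [h1, MulAut.apply_inv_self])
        · intro h y hy
          obtain ⟨x, hx, rfl⟩ := (Subgroup.mem_smul_pointwise_iff_exists _ _ _).1 hy
          rw [MulAut.smul_def, MulAut.conj_apply, MulAut.mul_apply, MulAut.mul_apply, h x hx,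
            MulAut.apply_inv_self]
      rw [← heq]
      refine hEmem _ hHg ?_ ?_
      · rw [← Nat.card_congr (Subgroup.equivSMul _ H).toEquiv, hHc]
      · rw [heq]
        intro h
        apply hE.ne_bot _ hX
        rw [← inv_smul_smul (restrictAut U g) (fixSub H), h]
        exact Subgroup.smul_bot _
    obtain ⟨X, hX⟩ := Finset.nonempty_iff_ne_empty.2 fun h0 : E = ∅ => by
      have := hE.sup_eq
      rw [h0, Finset.sup_empty] at this
      exact bot_ne_top this
    obtain ⟨H, -, hHc, rfl⟩ := hEsub X hX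
    have hone : E = {fixSub H} := Finset.eq_singleton_iff_unique_mem.2
      ⟨hX, fun Y hY => Finset.card_le_one.1 hcard1 Y hY _ hX⟩
    have htop : fixSub H = ⊤ := by
      have := hE.sup_eq
      rwa [hone, Finset.sup_singleton] at this
    rw [eq_one_of_fixSub_eq_top htop, Subgroup.card_bot, one_mul] at hHc
    rw [hN'def, Subgroup.card_map_of_injective Q.subtype_injective] at hHc
    exact hHc.symm.le
  obtain ⟨w, hw⟩ := exists_vector hUcop hp2 hQp hyp
  -- if the chosen point is trivial, every non-trivial point works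
  obtain ⟨w', hw'1, hw'⟩ : ∃ w' : ↥U, w' ≠ 1 ∧ ∀ x ∈ Q, x ^ p = 1 → x w' = w' → x = 1 := by
    by_cases hw1 : w = 1
    · obtain ⟨w', hw'⟩ := exists_ne (1 : ↥U)
      exact ⟨w', hw', fun x hx hxp _ => hw x hx hxp (by rw [hw1, map_one])⟩
    · exact ⟨w, hw1, hw⟩
  refine ⟨w', w'.2, fun h => hw'1 (Subtype.ext h), fun x hx hxp hxU hxw y hy => ?_⟩
  have h1 := hw' (restrictAut U ⟨x, MulAction.mem_stabilizer_iff.2 hxU⟩)
    ⟨_, Subgroup.mem_subgroupOf.2 hx, rfl⟩
    (by rw [← map_pow]; exact (congrArg _ (Subtype.ext hxp)).trans (map_one _)) (Subtype.ext hxw)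
  exact congrArg (fun φ : MulAut ↥U => ((φ ⟨y, hy⟩ : ↥U) : V)) h1

/-- If every point of `V` is fixed by a conjugate of an element `a` of order dividing `p` of a
normal `p`-subgroup of `L`, `p` odd, coprime to `|V|`, then `a = 1`. -/
theorem eq_one_of_conj_fixed_covering (hV : (Nat.card V).Coprime p) (hp2 : p ≠ 2)
    {L P : Subgroup (MulAut V)} (hP : IsPGroup p P) (hPL : P ≤ L)
    (hn : ∀ g ∈ L, ∀ x ∈ P, g * x * g⁻¹ ∈ P) {a : MulAut V} (ha : a ∈ P) (hap : a ^ p = 1)
    (hcov : ∀ v : V, ∃ g ∈ L, (g * a * g⁻¹) v = v) : a = 1 := by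
  classical
  rcases subsingleton_or_nontrivial V with h | h
  · exact MulEquiv.ext fun v => Subsingleton.elim _ _
  obtain ⟨D, hD, hDinv, hfin⟩ := exists_finest (V := V) L
  haveI : Finite ↥P := inferInstance
  obtain ⟨t, hts, ht⟩ := exists_subset_stabilizer (P := ↥P) hp2 hP D
    fun g U hU => hDinv g (hPL g.2) U hU
  choose! u hu hu1 hu' using fun U hU => exists_component_vector hV hp2 hP hn hD hfin (U := U) hU
  have hcomp : ∀ x ∈ L, ∀ f : Subgroup V → V, (∀ U ∈ D, f U ∈ U) → x (∏ U ∈ D, f U) = ∏ U ∈ D, f U →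
      ∀ U ∈ D, x (f (x⁻¹ • U)) = f U := by
    intro x hx f hf hfix
    refine hD.eq_of_prod_eq (fun U hU => ?_) hf ?_
    · have h1 := Subgroup.smul_mem_pointwise_smul _ x _ (hf _ (hDinv _ (L.inv_mem hx) U hU))
      rwa [smul_inv_smul] at h1
    · rw [map_prod] at hfix
      refine Eq.trans ?_ hfix
      refine Finset.prod_nbij' (fun U => x⁻¹ • U) (fun U => x • U)
        (fun U hU => hDinv _ (L.inv_mem hx) U hU) (fun U hU => hDinv _ hx U hU)
        (fun U _ => smul_inv_smul x U) (fun U _ => inv_smul_smul x U) fun U _ => rfl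
  by_cases hB : ∀ U ∈ D, a • U = U
  · -- `a` preserves every member
    obtain ⟨g, hg, hgv⟩ := hcov (∏ U ∈ D, u U)
    set b := g * a * g⁻¹ with hb
    have hbP : b ∈ P := hn g hg a ha
    have hbp : b ^ p = 1 := by rw [hb, conj_pow, hap, mul_one, mul_inv_cancel]
    have hbU : ∀ U ∈ D, b • U = U := fun U hU => by
      rw [hb, mul_smul, mul_smul, hB _ (hDinv _ (L.inv_mem hg) U hU), smul_inv_smul]
    have hbfix := hcomp b (hPL hbP) u hu hgv
    have htriv : b = 1 := by
      refine MulEquiv.ext fun v => ?_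
      obtain ⟨f, hf, hprod⟩ := exists_prod_of_mem_sup D (hD.sup_eq.symm ▸ Subgroup.mem_top v)
      rw [← hprod, map_prod]
      refine Finset.prod_congr rfl fun U hU => hu' U hU b hbP hbp (hbU U hU) ?_ _ (hf U)
      have h1 := hbfix U hU
      rwa [inv_smul_eq_iff.2 (hbU U hU).symm] at h1
    rw [hb, mul_inv_eq_one] at htriv
    exact mul_eq_left.1 htriv
  · -- `a` moves a member
    exfalso
    apply hB
    obtain ⟨g, hg, hgv⟩ := hcov (∏ U ∈ D, if U ∈ t then u U else 1)
    set b := g * a * g⁻¹ with hb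
    have hbP : b ∈ P := hn g hg a ha
    have hbfix := hcomp b (hPL hbP) (fun U => if U ∈ t then u U else 1)
      (fun U hU => by split <;> [exact hu U hU; exact U.one_mem]) hgv
    have hpres : ∀ U ∈ t, (⟨b, hbP⟩ : P) • U ∈ t := by
      intro U hU
      change b • U ∈ t
      by_contra hcon
      have h1 := hbfix (b • U) (hDinv b (hPL hbP) U (hts hU))
      rw [inv_smul_smul, if_pos hU, if_neg hcon] at h1
      exact hu1 U (hts hU) (b.injective (h1.trans (map_one b).symm))
    intro U hU
    have h1 : b • (g • U) = g • U := ht ⟨b, hbP⟩ hpres _ (hDinv g hg U hU)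
    rwa [hb, mul_smul, mul_smul, inv_smul_smul, smul_left_cancel_iff] at h1

end Cfsg.Agent.RegularOrbit
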