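import Mathlib.GroupTheory.PGroup
import Mathlib.GroupTheory.GroupAction.Basic
import Cfsg.Agent.Lib.RankTwo.Basic

/-!
# Subsets with trivial setwise stabiliser

`exists_subset_stabilizer`: a `p`-group, `p` odd, acting on a finite set has a subset whose setwise
stabiliser fixes every point (the odd-order case of Gluck's theorem).
-/

set_option autoImplicit false
set_option linter.style.haveILetI false

namespace Cfsg.Agent.RegularOrbit

open MulAction

universe u v

theorem exists_subset_stabilizer_aux {X : Type v} [DecidableEq X] {p : ℕ} [hp : Fact p.Prime]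
    (hp2 : p ≠ 2) : ∀ (n : ℕ) {P : Type u} [Group P] [Finite P] [MulAction P X], IsPGroup p P →
    ∀ s : Finset X, s.card = n → (∀ g : P, ∀ x ∈ s, g • x ∈ s) →
      ∃ t ⊆ s, ∀ g : P, (∀ x ∈ t, g • x ∈ t) → ∀ x ∈ s, g • x = x := by
  classical
  intro n
  induction n using Nat.strong_induction_on with
  | _ n ih =>
    intro P _ _ _ hP s hn hs
    rcases s.eq_empty_or_nonempty with rfl | ⟨x₀, hx₀⟩
    · exact ⟨∅, subset_rfl, fun g _ x hx => absurd hx (Finset.notMem_empty x)⟩
    by_cases hone : ∀ g : P, g • x₀ = x₀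
    · -- a fixed point
      have hinv : ∀ g : P, ∀ x ∈ s.erase x₀, g • x ∈ s.erase x₀ := fun g x hx => by
        rw [Finset.mem_erase] at hx ⊢
        exact ⟨fun h => hx.1 (by rw [← smul_left_cancel_iff g, h, hone g]), hs g x hx.2⟩
      obtain ⟨t, hts, ht⟩ := ih (s.erase x₀).card
        (hn ▸ Finset.card_erase_lt_of_mem hx₀) hP _ rfl hinv
      refine ⟨t, hts.trans (Finset.erase_subset _ _), fun g hg x hx => ?_⟩
      by_cases hxx : x = x₀
      · rw [hxx, hone]
      · exact ht g hg x (Finset.mem_erase.2 ⟨hxx, hx⟩)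
    by_cases htr : ∀ x ∈ s, x ∈ orbit P x₀
    · -- transitive case
      have hne : stabilizer P x₀ ≠ ⊤ := fun h => hone fun g =>
        mem_stabilizer_iff.1 (h ▸ Subgroup.mem_top g)
      obtain ⟨M, hM, hle⟩ := (eq_top_or_exists_le_coatom (stabilizer P x₀)).resolve_left hne
      obtain ⟨hMn, hMi⟩ := RankTwo.index_coatom hP hM
      haveI := hMn
      -- the block of a point
      have hblk : ∀ x ∈ s, ∃ g : P, g • x₀ = x := fun x hx => htr x hx
      choose! rep hrep using hblk
      let c : X → P ⧸ M := fun x => QuotientGroup.mk (rep x)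
      have hc : ∀ (g : P) (x : X), x ∈ s → g • x₀ = x → c x = QuotientGroup.mk g := by
        intro g x hx hgx
        refine QuotientGroup.eq.2 (hle (mem_stabilizer_iff.2 ?_))
        rw [mul_smul, inv_smul_eq_iff, hrep x hx, hgx]
      have hcs : ∀ (g : P) (x : X), x ∈ s → c (g • x) = g • c x := by
        intro g x hx
        rw [hc (g * rep x) (g • x) (hs g x hx) (by rw [mul_smul, hrep x hx])]
        rfl
      set s₁ := s.filter fun x => c x = ((1 : P) : P ⧸ M) with hs₁
      have hcx₀ : c x₀ = ((1 : P) : P ⧸ M) := hc 1 x₀ hx₀ (one_smul _ _)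
      have hx₁ : x₀ ∈ s₁ := Finset.mem_filter.2 ⟨hx₀, hcx₀⟩
      have hfix : ∀ m ∈ M, ∀ q : P ⧸ M, m • q = q := by
        intro m hm q
        induction q using QuotientGroup.induction_on with
        | _ g =>
          change ((m * g : P) : P ⧸ M) = g
          refine QuotientGroup.eq.2 ?_
          have := M.inv_mem (hMn.conj_mem m hm g⁻¹)
          simpa [mul_assoc] using this
      have hs₁inv : ∀ g : M, ∀ x ∈ s₁, g • x ∈ s₁ := fun g x hx => by
        rw [Finset.mem_filter] at hx ⊢
        exact ⟨hs g x hx.1, by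
          rw [show g • x = (g : P) • x from rfl, hcs g x hx.1, hfix g g.2, hx.2]⟩
      have hlt : s₁.card < n := by
        obtain ⟨g, hg⟩ : ∃ g, g ∉ M := by
          by_contra h; push Not at h
          exact hM.1 (eq_top_iff.2 fun x _ => h x)
        refine hn ▸ Finset.card_lt_card ⟨Finset.filter_subset _ _, fun h => hg ?_⟩
        have h1 := (Finset.mem_filter.1 (h (hs g x₀ hx₀))).2
        rw [hc g (g • x₀) (hs g x₀ hx₀) rfl] at h1
        simpa using QuotientGroup.eq.1 h1
      obtain ⟨t₁, ht₁s, ht₁⟩ := ih s₁.card hlt (P := M) (hP.to_subgroup M) s₁ rfl hs₁inv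
      let r : X → P := fun x => (c x).out
      have hr : ∀ x ∈ s, (r x)⁻¹ • x ∈ s₁ := fun x hx => by
        refine Finset.mem_filter.2 ⟨hs _ x hx, ?_⟩
        rw [hcs _ x hx]
        change (r x)⁻¹ • c x = _
        rw [inv_smul_eq_iff]
        change c x = ((r x * 1 : P) : P ⧸ M)
        rw [mul_one, QuotientGroup.out_eq']
      set t := t₁ ∪ s.filter (fun x => x ∉ s₁ ∧ (r x)⁻¹ • x ∉ t₁) with ht
      have htsub : t ⊆ s := Finset.union_subset (ht₁s.trans (Finset.filter_subset _ _))
        (Finset.filter_subset _ _)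
      have ht1 : t.filter (fun x => x ∈ s₁) = t₁ := by
        ext x
        simp only [ht, Finset.mem_filter, Finset.mem_union]
        exact ⟨fun h => h.1.resolve_right fun h' => h'.2.1 h.2, fun h => ⟨Or.inl h, ht₁s h⟩⟩
      have ht' : ∀ x ∈ s, x ∉ s₁ → (x ∈ t ↔ (r x)⁻¹ • x ∉ t₁) := fun x hx hx' => by
        simp only [ht, Finset.mem_union, Finset.mem_filter]
        exact ⟨fun h => (h.resolve_left fun h' => hx' (ht₁s h')).2.2,
          fun h => Or.inr ⟨hx, hx', h⟩⟩
      refine ⟨t, htsub, fun g hg => ?_⟩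
      have hg' : ∀ x ∈ s, (g • x ∈ t ↔ x ∈ t) := by
        have : t.image (g • ·) = t := Finset.eq_of_subset_of_card_le
          (Finset.image_subset_iff.2 hg)
          (Finset.card_image_of_injective t (MulAction.injective g)).ge
        refine fun x _ => ⟨fun h => ?_, hg x⟩
        rw [← this, Finset.mem_image] at h
        obtain ⟨y, hy, hyx⟩ := h
        exact smul_left_cancel g hyx ▸ hy
      -- `g` fixes every block
      have hgM : g ∈ M := by
        by_contra hgM
        have hout : ∀ x ∈ s₁, g • x ∉ s₁ := fun x hx h => hgM <| by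
          rw [Finset.mem_filter] at hx h
          rw [hcs g x hx.1, hx.2] at h
          have := QuotientGroup.eq.1 (show ((g * 1 : P) : P ⧸ M) = ((1 : P) : P ⧸ M) from h.2)
          simpa using this
        set r₁ := ((g : P) : P ⧸ M).out with hr₁
        have hrx : ∀ x ∈ s₁, r (g • x) = r₁ := fun x hx => by
          rw [Finset.mem_filter] at hx
          change (c (g • x)).out = _
          rw [hcs g x hx.1, hx.2, hr₁]
          change ((g * 1 : P) : P ⧸ M).out = _
          rw [mul_one]
        have himg : t₁.image (fun x => r₁⁻¹ • (g • x)) = s₁ \ t₁ := by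
          ext y
          rw [Finset.mem_image, Finset.mem_sdiff]
          constructor
          · rintro ⟨x, hx, rfl⟩
            have hxs := (Finset.mem_filter.1 (ht₁s hx)).1
            have h1 : g • x ∈ t := hg x (Finset.mem_union_left _ hx)
            rw [ht' _ (hs g x hxs) (hout x (ht₁s hx)), hrx x (ht₁s hx)] at h1
            exact ⟨hrx x (ht₁s hx) ▸ hr _ (hs g x hxs), h1⟩
          · rintro ⟨hy, hy'⟩
            have hys := (Finset.mem_filter.1 hy).1
            set x := g⁻¹ • r₁ • y with hxdef
            have hxs : x ∈ s₁ := by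
              refine Finset.mem_filter.2 ⟨hs _ _ (hs _ _ hys), ?_⟩
              rw [hcs _ _ (hs _ _ hys), hcs _ _ hys, (Finset.mem_filter.1 hy).2, inv_smul_eq_iff]
              change ((r₁ * 1 : P) : P ⧸ M) = ((g * 1 : P) : P ⧸ M)
              rw [mul_one, mul_one, hr₁, QuotientGroup.out_eq']
            refine ⟨x, ?_, by rw [hxdef, smul_inv_smul, inv_smul_smul]⟩
            have hxs' := (Finset.mem_filter.1 hxs).1
            have h1 : g • x ∈ t := by
              rw [ht' _ (hs g x hxs') (hout x hxs), hrx x hxs, hxdef, smul_inv_smul, inv_smul_smul]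
              exact hy'
            rw [← ht1]
            exact Finset.mem_filter.2 ⟨(hg' x hxs').1 h1, hxs⟩
        have h2 : t₁.card = s₁.card - t₁.card := by
          rw [← Finset.card_sdiff_of_subset ht₁s, ← himg, Finset.card_image_of_injective]
          intro a b h
          exact smul_left_cancel g (smul_left_cancel r₁⁻¹ h)
        have h3 : (orbit M x₀).ncard = s₁.card := by
          rw [← Set.ncard_coe_finset]
          congr 1
          ext x
          constructor
          · rintro ⟨m, rfl⟩
            exact hs₁inv m x₀ hx₁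
          · intro hx
            obtain ⟨hxs, hxc⟩ := Finset.mem_filter.1 hx
            have h4 : rep x ∈ M := by simpa using QuotientGroup.eq.1 hxc
            exact ⟨⟨rep x, h4⟩, hrep x hxs⟩
        haveI : Finite (orbit M x₀) := (Set.finite_range fun m : M => m • x₀).to_subtype
        obtain ⟨k, hk⟩ := (hP.to_subgroup M).card_orbit x₀
        have hodd : Odd s₁.card := by
          rw [← h3, ← Nat.card_coe_set_eq, hk]
          exact (hp.out.odd_of_ne_two hp2).pow
        have h5 := Finset.card_le_card ht₁s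
        obtain ⟨j, hj⟩ := hodd
        omega
      intro x hx
      have hgc : ∀ y ∈ s, c (g • y) = c y := fun y hy => by rw [hcs g y hy, hfix g hgM]
      by_cases hx' : x ∈ s₁
      · refine ht₁ ⟨g, hgM⟩ (fun y hy => ?_) x hx'
        rw [← ht1] at hy ⊢
        rw [Finset.mem_filter] at hy ⊢
        exact ⟨hg y hy.1, hs₁inv ⟨g, hgM⟩ y hy.2⟩
      · have hgx : (r x)⁻¹ * g * r x ∈ M := by
          simpa using hMn.conj_mem g hgM (r x)⁻¹
        have key : ∀ y ∈ s₁, (⟨_, hgx⟩ : M) • y = y := by
          refine ht₁ ⟨_, hgx⟩ fun y hy => ?_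
          by_contra hcon
          have hys := (Finset.mem_filter.1 (ht₁s hy)).1
          have hz : r x • y ∈ s := hs _ y hys
          have hcz : c (r x • y) = c x := by
            rw [hcs _ y hys, (Finset.mem_filter.1 (ht₁s hy)).2]
            change ((r x * 1 : P) : P ⧸ M) = c x
            rw [mul_one, QuotientGroup.out_eq']
          have hzn : r x • y ∉ s₁ := fun h => hx' (Finset.mem_filter.2
            ⟨hx, hcz ▸ (Finset.mem_filter.1 h).2⟩)
          have hrz : r (r x • y) = r x := by change (c _).out = _; rw [hcz]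
          have h1 : r x • y ∉ t := by
            rw [ht' _ hz hzn, hrz, inv_smul_smul]
            exact not_not_intro hy
          have hgn : g • r x • y ∉ s₁ := fun h => hzn (Finset.mem_filter.2
            ⟨hz, hgc _ hz ▸ (Finset.mem_filter.1 h).2⟩)
          have hrg : r (g • r x • y) = r x := by change (c _).out = _; rw [hgc _ hz, hcz]
          refine h1 ((hg' _ hz).1 ((ht' _ (hs g _ hz) hgn).2 ?_))
          rw [hrg, ← mul_smul, ← mul_smul]
          exact hcon
        have h1 := key _ (hr x hx)
        change ((r x)⁻¹ * g * r x) • (r x)⁻¹ • x = (r x)⁻¹ • x at h1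
        rw [← mul_smul, mul_assoc, mul_inv_cancel, mul_one, mul_smul] at h1
        exact smul_left_cancel _ h1
    · -- intransitive case
      push Not at htr
      obtain ⟨y, hy, hy'⟩ := htr
      set a := s.filter fun x => x ∈ orbit P x₀ with hadef
      have ha : ∀ g : P, ∀ x ∈ a, g • x ∈ a := fun g x hx => by
        rw [hadef, Finset.mem_filter] at hx ⊢
        exact ⟨hs g x hx.1, orbit_eq_iff.2 hx.2 ▸ mem_orbit x g⟩
      have hb : ∀ g : P, ∀ x ∈ s \ a, g • x ∈ s \ a := fun g x hx => by
        rw [Finset.mem_sdiff] at hx ⊢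
        exact ⟨hs g x hx.1, fun h => hx.2 (inv_smul_smul g x ▸ ha g⁻¹ _ h)⟩
      have hax : x₀ ∈ a := Finset.mem_filter.2 ⟨hx₀, mem_orbit_self x₀⟩
      have hay : y ∉ a := fun h => hy' (Finset.mem_filter.1 h).2
      have has : a ⊆ s := Finset.filter_subset _ _
      obtain ⟨t₁, ht₁s, ht₁⟩ := ih a.card
        (hn ▸ Finset.card_lt_card ⟨has, fun h => hay (h hy)⟩) hP a rfl ha
      obtain ⟨t₂, ht₂s, ht₂⟩ := ih (s \ a).card
        (hn ▸ Finset.card_lt_card ⟨Finset.sdiff_subset,
          fun h => (Finset.mem_sdiff.1 (h hx₀)).2 hax⟩) hP _ rfl hb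
      refine ⟨t₁ ∪ t₂, Finset.union_subset (ht₁s.trans has) (ht₂s.trans Finset.sdiff_subset),
        fun g hg x hx => ?_⟩
      by_cases hxa : x ∈ a
      · refine ht₁ g (fun z hz => ?_) x hxa
        rcases Finset.mem_union.1 (hg z (Finset.mem_union_left _ hz)) with h | h
        · exact h
        · exact absurd (ha g z (ht₁s hz)) (Finset.mem_sdiff.1 (ht₂s h)).2
      · refine ht₂ g (fun z hz => ?_) x (Finset.mem_sdiff.2 ⟨hx, hxa⟩)
        rcases Finset.mem_union.1 (hg z (Finset.mem_union_right _ hz)) with h | h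
        · exact absurd (ht₁s h) (Finset.mem_sdiff.1 (hb g z (ht₂s hz))).2
        · exact h

/-- A `p`-group, `p` odd, acting on a finite set has a subset of every invariant finite set whose
setwise stabiliser fixes the invariant set pointwise. -/
theorem exists_subset_stabilizer {P : Type u} {X : Type v} [Group P] [Finite P] [MulAction P X]
    [DecidableEq X] {p : ℕ} [Fact p.Prime] (hp2 : p ≠ 2) (hP : IsPGroup p P) (s : Finset X)
    (hs : ∀ g : P, ∀ x ∈ s, g • x ∈ s) :
    ∃ t ⊆ s, ∀ g : P, (∀ x ∈ t, g • x ∈ t) → ∀ x ∈ s, g • x = x :=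
  exists_subset_stabilizer_aux hp2 s.card hP s rfl hs

end Cfsg.Agent.RegularOrbit
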